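import Groth.Prelude.Def_W4c5stacksedinertiaGpd
import Mathlib.Data.Rat.Defs
import Mathlib.Data.Fintype.CardEmbedding
import Mathlib.Algebra.BigOperators.Fin
import Mathlib.RingTheory.Polynomial.Pochhammer
import Mathlib.LinearAlgebra.Eigenspace.Basic
import Mathlib.Tactic.FieldSimp
import Mathlib.GroupTheory.Index
import Mathlib.Algebra.Group.Ext
import Mathlib.Algebra.Polynomial.AlgebraMap

/-!
The inertia operators on finite groupoids: descending factorials of the inertia operator.
-/

set_option autoImplicit false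

universe u v

open W4c5stacksedinertia

namespace Groth.Agent.H20Inertia

noncomputable section

open scoped Classical

section Iso

theorem carrierEquiv (G : Type u) [Group G] [Finite G] : Nonempty ((FinGrp.of G).carrier ≃* G) :=
  ⟨(Nat.equivFinOfCardPos (α := G) Nat.card_pos.ne').symm.mulEquiv⟩

theorem idx_of_congr {G : Type u} [Group G] [Finite G] {H : Type v} [Group H] [Finite H] (e : G ≃* H) :
    Idx.of G = Idx.of H := by
  obtain ⟨a⟩ := carrierEquiv G
  obtain ⟨b⟩ := carrierEquiv H
  exact Quotient.sound (s := FinGrp.setoid) (show Nonempty _ from ⟨(a.trans e).trans b.symm⟩)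

theorem cl_congr {G : Type u} [Group G] [Finite G] {H : Type v} [Group H] [Finite H] (e : G ≃* H) :
    cl G = cl H := by
  rw [cl, cl, idx_of_congr e]

theorem idx_of_rep (i : Idx) : Idx.of i.rep = i := by
  obtain ⟨a⟩ := carrierEquiv i.rep
  exact (Quotient.sound (s := FinGrp.setoid) (show Nonempty _ from ⟨a⟩)).trans (Quotient.out_eq i)

theorem rep_of (G : Type u) [Group G] [Finite G] : Nonempty ((Idx.of G).rep ≃* G) := by
  obtain ⟨a⟩ := carrierEquiv G
  obtain ⟨b⟩ : Nonempty ((Quotient.out (s := FinGrp.setoid) (Idx.of G)).carrier ≃* (FinGrp.of G).carrier) :=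
    Quotient.exact (Quotient.out_eq (Idx.of G))
  exact ⟨(b.trans a : (Quotient.out (s := FinGrp.setoid) (Idx.of G)).carrier ≃* G)⟩

theorem card_of (G : Type u) [Group G] [Finite G] : (Idx.of G).card = Nat.card G := by
  obtain ⟨e⟩ := rep_of G
  exact Nat.card_congr e.toEquiv

theorem centerCard_of (G : Type u) [Group G] [Finite G] : (Idx.of G).centerCard = Nat.card (Subgroup.center G) := by
  obtain ⟨e⟩ := rep_of G
  exact Nat.card_congr (Subgroup.centerCongr e).toEquiv

theorem finite_setOf_card_le (n : ℕ) : {i : Idx | i.card ≤ n}.Finite := by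
  let F : (Σ m : Fin (n + 1), Group (Fin m)) → Idx := fun x => Quotient.mk FinGrp.setoid ⟨x.1, x.2⟩
  haveI : ∀ m : ℕ, Finite (Group (Fin m)) := fun m => by
    refine Finite.of_injective (fun g : Group (Fin m) => g.mul) fun a b h => ?_
    exact Group.ext h
  refine (Set.finite_range F).subset fun i hi => ?_
  have hc : (Quotient.out (s := FinGrp.setoid) i).n ≤ n := by
    have : i.card = (Quotient.out (s := FinGrp.setoid) i).n := by
      show Nat.card (Fin _) = _
      rw [Nat.card_eq_fintype_card, Fintype.card_fin]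
    rw [← this]; exact hi
  exact ⟨⟨⟨(Quotient.out (s := FinGrp.setoid) i).n, by omega⟩, (Quotient.out (s := FinGrp.setoid) i).str⟩,
    Quotient.out_eq i⟩

end Iso

section Weights

variable {G : Type u} [Group G] [Finite G]

/-- the weighted class of a subgroup -/
def wt (S : Subgroup G) : K := (Nat.card S : ℚ) • cl S

theorem wt_congr {S : Subgroup G} {H : Type v} [Group H] [Finite H] {T : Subgroup H} (e : S ≃* T) : wt S = wt T := by
  rw [wt, wt, cl_congr e, Nat.card_congr e.toEquiv]

theorem wt_map_equiv {H : Type v} [Group H] [Finite H] (e : G ≃* H) (S : Subgroup G) :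
    wt (S.map e.toMonoidHom) = wt S :=
  (wt_congr (S.equivMapOfInjective e.toMonoidHom e.injective)).symm

/-- the centralizer of a tuple -/
abbrev cen {r : ℕ} (s : CommTuple G r) : Subgroup G := Subgroup.centralizer (Set.range s.1)

omit [Finite G] in
theorem mem_cen {r : ℕ} {s : CommTuple G r} {g : G} : g ∈ cen s ↔ ∀ i, s.1 i * g = g * s.1 i := by
  simp [Subgroup.mem_centralizer_iff]

instance (r : ℕ) : Finite (CommTuple G r) := inferInstanceAs (Finite (Subtype _))

instance (r : ℕ) : Fintype (CommTuple G r) := Fintype.ofFinite _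

/-- conjugate of a tuple -/
def conjTuple {r : ℕ} (g : G) (s : CommTuple G r) : CommTuple G r :=
  ⟨fun i => g * s.1 i * g⁻¹, fun i j h => s.2.1 (by simpa using h), fun i j => (Commute.conj_iff g).mpr (s.2.2 i j)⟩

theorem wt_cen_conj {r : ℕ} (g : G) (s : CommTuple G r) : wt (cen (conjTuple g s)) = wt (cen s) := by
  rw [← wt_map_equiv (MulAut.conj g) (cen s)]
  congr 1
  ext x
  rw [Subgroup.mem_map_equiv, mem_cen, mem_cen]
  refine forall_congr' fun i => ?_
  simp only [conjTuple, MulAut.conj_symm_apply]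
  constructor
  · intro h
    calc s.1 i * (g⁻¹ * x * g) = g⁻¹ * (g * s.1 i * g⁻¹ * x) * g := by group
      _ = g⁻¹ * (x * (g * s.1 i * g⁻¹)) * g := by rw [h]
      _ = g⁻¹ * x * g * s.1 i := by group
  · intro h
    calc g * s.1 i * g⁻¹ * x = g * (s.1 i * (g⁻¹ * x * g)) * g⁻¹ := by group
      _ = g * (g⁻¹ * x * g * s.1 i) * g⁻¹ := by rw [h]
      _ = x * (g * s.1 i * g⁻¹) := by group

theorem inertiaROf_eq (r : ℕ) : inertiaROf r G = (Nat.card G : ℚ)⁻¹ • ∑ s : CommTuple G r, wt (cen s) := by
  haveI : Fintype G := Fintype.ofFinite G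
  haveI : Finite (CommTuple.Orbit G r) := inferInstanceAs (Finite (Quotient _))
  letI : Fintype (CommTuple.Orbit G r) := Quotient.fintype (CommTuple.setoid G r)
  rw [inertiaROf, finsum_eq_sum_of_fintype,
    ← Finset.sum_fiberwise Finset.univ (fun s => (Quotient.mk (CommTuple.setoid G r) s : CommTuple.Orbit G r)),
    Finset.smul_sum]
  refine Finset.sum_congr rfl fun O _ => ?_
  set s0 := Quotient.out (s := CommTuple.setoid G r) O with hs0
  let fib := Finset.univ.filter fun s => (Quotient.mk (CommTuple.setoid G r) s : CommTuple.Orbit G r) = O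
  have hmem : ∀ t, t ∈ fib ↔ ∃ g, conjTuple g s0 = t := by
    intro t
    simp only [fib, Finset.mem_filter, Finset.mem_univ, true_and]
    constructor
    · intro ht
      obtain ⟨g, hg⟩ : (CommTuple.setoid G r).r s0 t := Quotient.exact ((Quotient.out_eq O).trans ht.symm)
      exact ⟨g, Subtype.ext (funext hg)⟩
    · rintro ⟨g, rfl⟩
      exact (Quotient.sound (s := CommTuple.setoid G r) ⟨g, fun _ => rfl⟩).symm.trans (Quotient.out_eq O)
  have hconst : ∀ t ∈ fib, wt (cen t) = wt (cen s0) := fun t ht => by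
    obtain ⟨g, rfl⟩ := (hmem t).mp ht
    exact wt_cen_conj g s0
  have hcard : fib.card * Nat.card (cen s0) = Nat.card G := by
    have h := Finset.card_eq_sum_card_fiberwise (s := (Finset.univ : Finset G)) (t := fib) (f := fun g => conjTuple g s0)
      fun g _ => (hmem _).mpr ⟨g, rfl⟩
    have hf : ∀ t ∈ fib, (Finset.univ.filter fun g => conjTuple g s0 = t).card = Nat.card (cen s0) := by
      intro t ht
      obtain ⟨g0, rfl⟩ := (hmem t).mp ht
      rw [Nat.card_eq_fintype_card, ← Finset.card_univ]
      refine Finset.card_bij' (fun g hg => ⟨g0⁻¹ * g, ?_⟩) (fun c _ => g0 * c.1) (fun _ _ => Finset.mem_univ _) ?_ ?_ ?_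
      · simp only [Finset.mem_filter, Finset.mem_univ, true_and] at hg
        rw [mem_cen]
        intro i
        have h1 : g * s0.1 i * g⁻¹ = g0 * s0.1 i * g0⁻¹ := congrFun (congrArg Subtype.val hg) i
        calc s0.1 i * (g0⁻¹ * g) = g0⁻¹ * (g0 * s0.1 i * g0⁻¹) * g := by group
          _ = g0⁻¹ * (g * s0.1 i * g⁻¹) * g := by rw [h1]
          _ = g0⁻¹ * g * s0.1 i := by group
      · intro c _
        simp only [Finset.mem_filter, Finset.mem_univ, true_and]
        refine Subtype.ext (funext fun i => ?_)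
        show g0 * c.1 * s0.1 i * (g0 * c.1)⁻¹ = g0 * s0.1 i * g0⁻¹
        rw [mul_assoc g0 c.1, ← mem_cen.mp c.2 i]
        group
      · intro g _; simp
      · intro c _; simp
    rw [Finset.sum_congr rfl hf, Finset.sum_const, smul_eq_mul, Finset.card_univ, ← Nat.card_eq_fintype_card] at h
    exact h.symm
  suffices cl (cen s0) = (Nat.card G : ℚ)⁻¹ • ∑ t ∈ fib, wt (cen t) by
    convert this using 3
    all_goals (try (ext t; simp [fib]))
  rw [Finset.sum_congr rfl hconst, Finset.sum_const, ← Nat.cast_smul_eq_nsmul ℚ, smul_smul, wt, smul_smul,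
    mul_assoc, ← Nat.cast_mul, hcard, inv_mul_cancel₀ (Nat.cast_ne_zero.mpr Nat.card_pos.ne'), one_smul]

theorem inertiaROf_congr {H : Type v} [Group H] [Finite H] (e : G ≃* H) (r : ℕ) :
    inertiaROf r G = inertiaROf r H := by
  rw [inertiaROf_eq, inertiaROf_eq, Nat.card_congr e.toEquiv]
  congr 1
  let E : CommTuple G r ≃ CommTuple H r :=
    { toFun := fun s => ⟨fun i => e (s.1 i), e.injective.comp s.2.1, fun i j => (s.2.2 i j).map e⟩
      invFun := fun s => ⟨fun i => e.symm (s.1 i), e.symm.injective.comp s.2.1, fun i j => (s.2.2 i j).map e.symm⟩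
      left_inv := fun s => Subtype.ext (funext fun i => e.symm_apply_apply _)
      right_inv := fun s => Subtype.ext (funext fun i => e.apply_symm_apply _) }
  refine Fintype.sum_equiv E _ _ fun s => ?_
  rw [← wt_map_equiv e (cen s)]
  congr 1
  ext x
  rw [Subgroup.mem_map_equiv, mem_cen, mem_cen]
  refine forall_congr' fun i => ?_
  show _ ↔ e (s.1 i) * x = x * e (s.1 i)
  rw [← e.injective.eq_iff, map_mul, map_mul, e.apply_symm_apply]

theorem inertiaR_cl (r : ℕ) : inertiaR r (cl G) = inertiaROf r G := by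
  obtain ⟨e⟩ := rep_of G
  rw [inertiaR, cl, Finsupp.linearCombination_single, one_smul]
  exact inertiaROf_congr e r

theorem inertia_inertiaROf (r : ℕ) :
    inertia (inertiaROf r G) = inertiaROf (r + 1) G + (r : ℚ) • inertiaROf r G := by
  haveI : Fintype G := Fintype.ofFinite G
  rw [inertiaROf_eq r, inertiaROf_eq (r + 1), smul_comm (r : ℚ), ← smul_add, map_smul, map_sum]
  congr 1
  -- the weight of a commuting pair
  let w : CommTuple G r → G → K := fun s t => wt (cen s ⊓ Subgroup.centralizer {t})
  have hw : ∀ s : CommTuple G r, inertia (wt (cen s)) = ∑ t ∈ Finset.univ.filter (fun t => t ∈ cen s), w s t := by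
    intro s
    let E : (cen s) ≃ CommTuple (cen s) 1 :=
      { toFun := fun x => ⟨fun _ => x, fun i j _ => Subsingleton.elim i j, fun _ _ => Commute.refl x⟩
        invFun := fun q => q.1 0
        left_inv := fun x => rfl
        right_inv := fun q => Subtype.ext (funext fun i => by rw [Subsingleton.elim i 0]) }
    rw [wt, map_smul, inertiaR_cl, inertiaROf_eq, smul_smul, mul_inv_cancel₀ (Nat.cast_ne_zero.mpr Nat.card_pos.ne'),
      one_smul, Finset.sum_subtype (Finset.univ.filter fun t => t ∈ cen s) (p := fun t => t ∈ cen s) (fun t => by simp)]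
    refine (Fintype.sum_equiv E _ _ fun x => ?_).symm
    refine (wt_congr ((cen (E x)).equivMapOfInjective (cen s).subtype (cen s).subtype_injective |>.trans
      (MulEquiv.subgroupCongr ?_))).symm
    ext y
    simp only [Subgroup.mem_map, Subgroup.coe_subtype, Subgroup.mem_inf, Subgroup.mem_centralizer_singleton_iff]
    constructor
    · rintro ⟨z, hz, rfl⟩
      exact ⟨z.2, (congrArg Subtype.val (mem_cen.mp hz 0)).symm⟩
    · rintro ⟨hy1, hy2⟩
      exact ⟨⟨y, hy1⟩, mem_cen.mpr fun _ => Subtype.ext hy2.symm, rfl⟩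
  have hsplit : ∀ s : CommTuple G r, inertia (wt (cen s)) =
      ∑ t ∈ Finset.univ.filter (fun t => t ∈ cen s ∧ t ∉ Set.range s.1), w s t + (r : ℚ) • wt (cen s) := by
    intro s
    rw [hw s, ← Finset.sum_filter_add_sum_filter_not _ (fun t => t ∉ Set.range s.1), Finset.filter_filter,
      Finset.filter_filter]
    congr 1
    have himg : (Finset.univ.filter fun t => t ∈ cen s ∧ ¬ t ∉ Set.range s.1) = Finset.univ.image s.1 := by
      ext t
      simp only [Finset.mem_filter, Finset.mem_univ, true_and, not_not, Finset.mem_image, Set.mem_range]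
      constructor
      · exact fun h => h.2
      · rintro ⟨i, rfl⟩
        exact ⟨mem_cen.mpr fun j => (s.2.2 j i).eq, i, rfl⟩
    rw [himg, Finset.sum_image fun i _ j _ h => s.2.1 h]
    have hc : ∀ i, w s (s.1 i) = wt (cen s) := fun i => by
      show wt _ = _
      congr 1
      refine inf_eq_left.mpr fun x hx => ?_
      rw [Subgroup.mem_centralizer_singleton_iff]
      exact (mem_cen.mp hx i).symm
    rw [Finset.sum_congr rfl fun i _ => hc i, Finset.sum_const, Finset.card_univ, Fintype.card_fin,
      ← Nat.cast_smul_eq_nsmul ℚ]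
  rw [Finset.sum_congr rfl fun s _ => hsplit s, Finset.sum_add_distrib, Finset.smul_sum]
  congr 1
  rw [Finset.sum_sigma']
  refine Finset.sum_bij' (fun p hp => (⟨Fin.snoc p.1.1 p.2, ?_, ?_⟩ : CommTuple G (r + 1)))
    (fun q _ => ⟨⟨Fin.init q.1, fun i j h => Fin.castSucc_injective _ (q.2.1 h), fun i j => q.2.2 _ _⟩, q.1 (Fin.last r)⟩)
    (fun _ _ => Finset.mem_univ _) ?_ ?_ ?_ ?_
  · simp only [Finset.mem_sigma, Finset.mem_univ, Finset.mem_filter, true_and] at hp
    exact Fin.snoc_injective_iff.mpr ⟨p.1.2.1, hp.2⟩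
  · simp only [Finset.mem_sigma, Finset.mem_univ, Finset.mem_filter, true_and] at hp
    intro i j
    cases i using Fin.lastCases with
    | last =>
      cases j using Fin.lastCases with
      | last => exact Commute.refl _
      | cast j => simpa [Commute, SemiconjBy] using (mem_cen.mp hp.1 j).symm
    | cast i =>
      cases j using Fin.lastCases with
      | last => simpa [Commute, SemiconjBy] using mem_cen.mp hp.1 i
      | cast j => simpa using p.1.2.2 i j
  · intro q _
    refine Finset.mem_sigma.mpr ⟨Finset.mem_univ _, Finset.mem_filter.mpr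
      ⟨Finset.mem_univ _, mem_cen.mpr fun i => (q.2.2 _ _).eq, ?_⟩⟩
    rintro ⟨i, hi⟩
    exact (Fin.castSucc_lt_last i).ne (q.2.1 hi)
  · intro p _
    refine Sigma.ext (Subtype.ext ?_) (heq_of_eq ?_)
    · show Fin.init (α := fun _ => G) (Fin.snoc p.1.1 p.2) = p.1.1
      exact Fin.init_snoc (α := fun _ => G) _ _
    · show (Fin.snoc p.1.1 p.2 : Fin (r + 1) → G) (Fin.last r) = p.2
      exact Fin.snoc_last (α := fun _ => G) _ _
  · intro q _
    exact Subtype.ext (Fin.snoc_init_self q.1)
  · intro p _
    refine congrArg wt (SetLike.ext fun x => ?_)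
    rw [Subgroup.mem_inf, Subgroup.mem_centralizer_singleton_iff]
    refine ⟨fun h => mem_cen.mpr fun i => ?_, fun h => ⟨mem_cen.mpr fun i => ?_, ?_⟩⟩
    · show (Fin.snoc p.1.1 p.2 : Fin (r + 1) → G) i * x = x * (Fin.snoc p.1.1 p.2 : Fin (r + 1) → G) i
      cases i using Fin.lastCases with
      | last => simpa using h.2.symm
      | cast i => simpa using mem_cen.mp h.1 i
    · have h' : (Fin.snoc p.1.1 p.2 : Fin (r + 1) → G) i.castSucc * x =
          x * (Fin.snoc p.1.1 p.2 : Fin (r + 1) → G) i.castSucc := mem_cen.mp h i.castSucc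
      simpa using h'
    · have h' : (Fin.snoc p.1.1 p.2 : Fin (r + 1) → G) (Fin.last r) * x =
          x * (Fin.snoc p.1.1 p.2 : Fin (r + 1) → G) (Fin.last r) := mem_cen.mp h (Fin.last r)
      simpa using h'.symm

theorem inertiaROf_zero : inertiaROf 0 G = cl G := by
  rw [inertiaROf_eq]
  let s : CommTuple G 0 := ⟨fun i => i.elim0, fun i => i.elim0, fun i => i.elim0⟩
  rw [Fintype.sum_eq_single s fun t ht => absurd (Subtype.ext (funext fun i => i.elim0)) ht]
  have e : cen s ≃* G := (MulEquiv.subgroupCongr (eq_top_iff.mpr fun x _ => mem_cen.mpr fun i => i.elim0)).trans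
    Subgroup.topEquiv
  rw [wt, cl_congr e, Nat.card_congr e.toEquiv, smul_smul, inv_mul_cancel₀ (Nat.cast_ne_zero.mpr Nat.card_pos.ne'),
    one_smul]

/-- orders do not increase -/
theorem inertiaROf_mem_Kle (r : ℕ) {n : ℕ} (h : Nat.card G ≤ n) : inertiaROf r G ∈ Kle n := by
  rw [inertiaROf_eq]
  refine Submodule.smul_mem _ _ (Submodule.sum_mem _ fun s _ => Submodule.smul_mem _ _ ?_)
  refine Finsupp.single_mem_supported ℚ 1 ?_
  rw [Set.mem_setOf_eq, card_of]
  exact ((cen s).card_le_card_group).trans h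

/-- modulo groups with larger centre only the central tuples count -/
theorem inertiaROf_sub_mem_Kge (r : ℕ) {k : ℕ} (hk : k ≤ Nat.card (Subgroup.center G)) :
    inertiaROf r G - ((Nat.card (Subgroup.center G)).descFactorial r : ℚ) • cl G ∈ Kge (k + 1) := by
  haveI : Fintype G := Fintype.ofFinite G
  haveI : Fintype (Subgroup.center G) := Fintype.ofFinite _
  let Z := Finset.univ.filter fun s : CommTuple G r => ∀ i, s.1 i ∈ Subgroup.center G
  have hZ : Z.card = (Nat.card (Subgroup.center G)).descFactorial r := by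
    rw [Nat.card_eq_fintype_card]
    calc Z.card = Fintype.card (Fin r ↪ Subgroup.center G) := by
          rw [← Finset.card_univ]
          refine Finset.card_bij' (fun s hs => ⟨fun i => ⟨s.1 i, (Finset.mem_filter.mp hs).2 i⟩, fun i j h =>
            s.2.1 (congrArg Subtype.val h)⟩) (fun f _ => ⟨fun i => (f i).1, fun i j h => f.injective (Subtype.ext h),
            fun i j => (Subgroup.mem_center_iff.mp (f j).2 _)⟩) (fun _ _ => Finset.mem_univ _) ?_ ?_ ?_
          · intro f _; exact Finset.mem_filter.mpr ⟨Finset.mem_univ _, fun i => (f i).2⟩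
          · intro s _; rfl
          · intro f _; rfl
      _ = _ := by rw [Fintype.card_embedding_eq, Fintype.card_fin]
  have hcent : ∀ s ∈ Z, wt (cen s) = (Nat.card G : ℚ) • cl G := by
    intro s hs
    have hs' := (Finset.mem_filter.mp hs).2
    have htop : cen s = ⊤ := eq_top_iff.mpr fun x _ => mem_cen.mpr fun i => (Subgroup.mem_center_iff.mp (hs' i) x).symm
    let e : cen s ≃* G := (MulEquiv.subgroupCongr htop).trans Subgroup.topEquiv
    rw [wt, cl_congr e, Nat.card_congr e.toEquiv]
  rw [inertiaROf_eq, ← Finset.sum_filter_add_sum_filter_not Finset.univ (fun s : CommTuple G r => ∀ i, s.1 i ∈ Subgroup.center G)]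
  rw [show ∑ s ∈ Z, wt (cen s) = _ from Finset.sum_congr rfl hcent, Finset.sum_const, ← Nat.cast_smul_eq_nsmul ℚ, hZ,
    smul_add, smul_comm _ (Nat.card G : ℚ), inv_smul_smul₀ (Nat.cast_ne_zero.mpr Nat.card_pos.ne'), add_sub_cancel_left]
  refine Submodule.smul_mem _ _ (Submodule.sum_mem _ fun s hs => Submodule.smul_mem _ _ ?_)
  refine Finsupp.single_mem_supported ℚ 1 ?_
  rw [Set.mem_setOf_eq, centerCard_of]
  simp only [Finset.mem_filter, Finset.mem_univ, true_and] at hs
  push Not at hs
  obtain ⟨i, hi⟩ := hs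
  have hsi : s.1 i ∈ cen s := mem_cen.mpr fun j => (s.2.2 j i).eq
  have hlt : (Subgroup.center G).carrier ⊂ ((Subgroup.center (cen s)).map (cen s).subtype).carrier := by
    refine ⟨fun z hz => ?_, fun h => hi (h ⟨⟨s.1 i, hsi⟩, Subgroup.mem_center_iff.mpr fun x =>
      Subtype.ext (mem_cen.mp x.2 i).symm, rfl⟩)⟩
    have hzG := Subgroup.mem_center_iff.mp hz
    exact ⟨⟨z, mem_cen.mpr fun j => hzG _⟩, Subgroup.mem_center_iff.mpr fun x => Subtype.ext (hzG _), rfl⟩
  have h2 : Nat.card (Subgroup.center G) < Nat.card ((Subgroup.center (cen s)).map (cen s).subtype) :=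
    Set.ncard_lt_ncard hlt
  rw [← Nat.card_congr ((Subgroup.center (cen s)).equivMapOfInjective (cen s).subtype (cen s).subtype_injective).toEquiv]
    at h2
  omega

end Weights

section Operators

open Polynomial

theorem inertiaR_succ (r : ℕ) : inertiaR (r + 1) = (inertia - (r : ℚ) • (1 : K →ₗ[ℚ] K)) * inertiaR r := by
  refine Finsupp.lhom_ext fun i c => ?_
  have h := inertia_inertiaROf (G := i.rep) r
  simp only [inertiaR, inertia, Module.End.mul_apply, LinearMap.sub_apply, LinearMap.smul_apply, Module.End.one_apply,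
    Finsupp.linearCombination_single, map_smul] at h ⊢
  rw [h, add_sub_cancel_right]

theorem inertiaR_zero : inertiaR 0 = (1 : K →ₗ[ℚ] K) := by
  refine Finsupp.lhom_ext fun i c => ?_
  rw [inertiaR, Finsupp.linearCombination_single, inertiaROf_zero, cl, idx_of_rep]
  simp

theorem inertiaR_eq_aeval (r : ℕ) : inertiaR r = aeval inertia (descPochhammer ℚ r) := by
  induction r with
  | zero => rw [inertiaR_zero, descPochhammer_zero, map_one]
  | succ r ih =>
    rw [inertiaR_succ, ih, descPochhammer_succ_right, mul_comm, map_mul, map_sub, aeval_X, map_natCast]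
    congr 2

theorem inertiaR_mem_Kle (r n : ℕ) {v : K} (hv : v ∈ Kle n) : inertiaR r v ∈ Kle n := by
  rw [inertiaR, Finsupp.linearCombination_apply]
  exact Submodule.sum_mem _ fun i hi => Submodule.smul_mem _ _ (inertiaROf_mem_Kle r
    (show i.card ≤ n from (Finsupp.mem_supported ℚ v).mp hv hi))

theorem inertiaR_sub_smul_mem_Kge (r k : ℕ) {v : K} (hv : v ∈ Kge k) :
    inertiaR r v - (k.descFactorial r : ℚ) • v ∈ Kge (k + 1) := by
  rw [inertiaR, Finsupp.linearCombination_apply, Finsupp.sum]
  conv => arg 2; arg 2; arg 2; rw [← Finsupp.sum_single v, Finsupp.sum]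
  rw [Finset.smul_sum, ← Finset.sum_sub_distrib]
  refine Submodule.sum_mem _ fun i hi => ?_
  have hik : k ≤ i.centerCard := (Finsupp.mem_supported ℚ v).mp hv hi
  have h1 : Finsupp.single i (v i) = v i • cl i.rep := by
    rw [cl, idx_of_rep, Finsupp.smul_single, smul_eq_mul, mul_one]
  rw [h1, smul_comm, ← smul_sub]
  refine Submodule.smul_mem _ _ ?_
  have h := inertiaROf_sub_mem_Kge (G := i.rep) r hik
  rcases eq_or_lt_of_le hik with he | hlt
  · subst he; exact h
  · have hcl : cl i.rep ∈ Kge (k + 1) := Finsupp.single_mem_supported ℚ 1 (by rw [idx_of_rep]; exact hlt)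
    have h' := Submodule.sub_mem _ (Submodule.add_mem _ h (Submodule.smul_mem _ ((i.centerCard.descFactorial r : ℚ)) hcl))
      (Submodule.smul_mem _ (k.descFactorial r : ℚ) hcl)
    rwa [show i.centerCard = Nat.card (Subgroup.center i.rep) from rfl, sub_add_cancel] at h'

theorem exists_mem_Kle (v : K) : ∃ n, v ∈ Kle n :=
  ⟨v.support.sup Idx.card, (Finsupp.mem_supported ℚ v).mpr fun i hi => show i.card ≤ _ from Finset.le_sup (f := Idx.card) hi⟩

theorem inertiaR_eq_zero_of_mem_Kle {n r : ℕ} (hr : n < r) {v : K} (hv : v ∈ Kle n) : inertiaR r v = 0 := by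
  have step : ∀ k, ∀ w ∈ Kle n, inertiaR k w ∈ Kge k := by
    intro k
    induction k with
    | zero => intro w _; exact (Finsupp.mem_supported ℚ _).mpr fun i _ => Nat.zero_le _
    | succ k ih =>
      intro w hw
      have h := inertiaR_sub_smul_mem_Kge 1 k (ih w hw)
      rw [Nat.descFactorial_one] at h
      rw [inertiaR_succ]
      exact h
  have hall : ∀ k, inertiaR k v ∈ Kle n := fun k => inertiaR_mem_Kle k n hv
  refine Finsupp.ext fun i => ?_
  by_contra h
  have hi : i ∈ (inertiaR r v).support := Finsupp.mem_support_iff.mpr h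
  have h1 : i.card ≤ n := (Finsupp.mem_supported ℚ _).mp (hall r) hi
  have h2 : r ≤ i.centerCard := (Finsupp.mem_supported ℚ _).mp (step r v hv) hi
  have h3 : i.centerCard ≤ i.card := (Subgroup.center i.rep).card_le_card_group
  omega

end Operators

end

end Groth.Agent.H20Inertia
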