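import Groth.Agent.H20Inertia.Points
import Mathlib.RingTheory.LocalRing.Module
import Mathlib.RingTheory.Ideal.GoingUp
import Mathlib.RingTheory.Polynomial.ScaleRoots
import Mathlib.RingTheory.Localization.BaseChange

/-!
Finite flat group schemes acting on affine schemes: the algebra is integral over the invariants and
the action is free over a neighbourhood in the quotient of a point with trivial inertia.
-/

set_option autoImplicit false

universe u

open TensorProduct HopfRep

namespace Groth.Agent.H20Inertia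

noncomputable section

variable {R A B : Type u} [CommRing R] [CommRing A] [HopfAlgebra R A] [Module.Finite R A] [Module.Flat R A]
  [CommRing B] [Algebra R B] [Comod R A B] [GLin.IsCoactAlg R A B]

omit [CommRing R] [CommRing A] [CommRing B] in
theorem scale_aux {k M : Type u} [CommSemiring k] [CommRing M] [Algebra k M] (s t : k) (c d : M) (h : t • c = d) :
    algebraMap k M s * d = c * (algebraMap k M t * algebraMap k M s) := by
  rw [← h, Algebra.smul_def]
  ring

/-- Trivial inertia kills the augmentation part of any algebra in which the point is fixed. -/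
theorem eq_counit_of_inertTriv {K L : Type u} [CommRing K] [Algebra R K] [CommRing L] [Algebra R L] (x : B →ₐ[R] K)
    (hx : InertTriv A x) (Λ : B ⊗[R] A →ₐ[R] L) (h : K →ₐ[R] L) (hb : ∀ b, Λ (b ⊗ₜ[R] (1 : A)) = h (x b))
    (hJ : ∀ b, Λ (GLin.coactAlgHom R A B b) = Λ (b ⊗ₜ[R] (1 : A))) (b : B) (a : A) :
    Λ (b ⊗ₜ[R] a) = h (x b * algebraMap R K (Bialgebra.counitAlgHom R A a)) := by
  let g : A →ₐ[R] L := Λ.comp Algebra.TensorProduct.includeRight
  have hΛ : Algebra.TensorProduct.lift (h.comp x) g (fun _ _ => .all _ _) = Λ :=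
    Algebra.TensorProduct.ext' fun b a => by
      rw [Algebra.TensorProduct.lift_tmul]
      show h (x b) * Λ ((1 : B) ⊗ₜ[R] a) = _
      rw [← hb, ← map_mul, Algebra.TensorProduct.tmul_mul_tmul, _root_.mul_one, _root_.one_mul]
  have hg : g = (1 : WithConv (A →ₐ[R] L)).ofConv := by
    refine hx L h g (AlgHom.ext fun b => ?_)
    show Algebra.TensorProduct.lift (h.comp x) g (fun _ _ => .all _ _) (GLin.coactAlgHom R A B b) = h (x b)
    rw [hΛ, hJ, hb]
  have h1 := AlgHom.congr_fun hg a
  rw [AlgHom.convOne_apply] at h1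
  rw [map_mul, h.commutes, ← hb, show Bialgebra.counitAlgHom R A a = Coalgebra.counit a from rfl, ← h1]
  show _ = _ * Λ ((1 : B) ⊗ₜ[R] a)
  rw [← map_mul, Algebra.TensorProduct.tmul_mul_tmul, _root_.mul_one, _root_.one_mul]

theorem exists_smul_mem_range (q : Ideal R) [q.IsPrime]
    (y : Localization.AtPrime q ⊗[R] GLin.invariants R A B) :
    ∃ t ∈ q.primeCompl, ∃ c : GLin.invariants R A B,
      t • y = (1 : Localization.AtPrime q) ⊗ₜ[R] c := by
  obtain ⟨⟨c, t⟩, h⟩ := IsLocalizedModule.surj q.primeCompl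
    (TensorProduct.mk R (Localization.AtPrime q) (GLin.invariants R A B) 1) y
  exact ⟨t, t.2, c, h⟩

theorem isIntegral_smul_of_prime (q : Ideal R) [q.IsPrime] (f : B) :
    ∃ t ∈ q.primeCompl, _root_.IsIntegral (GLin.invariants R A B) (t • f) := by
  classical
  set C := GLin.invariants R A B
  let S := Localization.AtPrime q
  haveI : Module.Flat R S := IsLocalization.flat S q.primeCompl
  haveI : Module.Free S (S ⊗[R] A) := Module.free_of_flat_of_isLocalRing
  letI := CoactBr.Comod.baseChange R S A B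
  haveI := CoactBr.isCoactAlg_baseChange R S A B
  rcases subsingleton_or_nontrivial (S ⊗[R] B) with hsub | hnt
  · obtain ⟨t, ht⟩ := (IsLocalizedModule.eq_zero_iff q.primeCompl (TensorProduct.mk R S B 1) (m := f)).1
      (Subsingleton.elim _ _)
    exact ⟨t, t.2, by rw [← Submonoid.smul_def, ht]; exact isIntegral_zero⟩
  let P := H20Comod.FreeCharpoly.coactCharpoly S (S ⊗[R] A) (S ⊗[R] B) ((1 : S) ⊗ₜ[R] f)
  have hP : P.Monic := LinearMap.charpoly_monic _
  have hy : ∀ i, ∃ t ∈ q.primeCompl, ∃ c : C, t • P.coeff i = (1 : S) ⊗ₜ[R] (c : B) := fun i => by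
    have h := congrArg (Polynomial.coeff · i) (H20Comod.FreeCharpoly.coactCharpoly_map_coact (k := S) (A := S ⊗[R] A)
      ((1 : S) ⊗ₜ[R] f))
    simp only [Polynomial.coeff_map] at h
    obtain ⟨y, hy⟩ := fixed_baseChange R S A B (P.coeff i) h
    obtain ⟨t, ht, c, hc⟩ := exists_smul_mem_range q y
    refine ⟨t, ht, c, ?_⟩
    rw [← hy, ← map_smul, hc]
    rfl
  choose t ht c hc using hy
  let T := ∏ i ∈ Finset.range (P.natDegree + 1), t i
  have hT : T ∈ q.primeCompl := Submonoid.prod_mem _ fun i _ => ht i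
  let φ : C →+* S ⊗[R] B := (Algebra.TensorProduct.includeRight : B →ₐ[R] S ⊗[R] B).toRingHom.comp C.val.toRingHom
  have hφ : ∀ r : R, φ (algebraMap R C r) = algebraMap R (S ⊗[R] B) r := fun r =>
    (Algebra.TensorProduct.includeRight : B →ₐ[R] S ⊗[R] B).commutes r
  have hlift : P.scaleRoots (algebraMap R (S ⊗[R] B) T) ∈ Polynomial.lifts φ := by
    refine (Polynomial.lifts_iff_coeff_lifts _).2 fun i => ?_
    rw [Polynomial.coeff_scaleRoots, ← map_pow]
    rcases lt_trichotomy i P.natDegree with hi | hi | hi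
    · obtain ⟨s, hs⟩ : t i ∣ T ^ (P.natDegree - i) :=
        (Finset.dvd_prod_of_mem t (Finset.mem_range.2 (Nat.lt_succ_of_lt hi))).trans (dvd_pow_self T (by omega))
      refine ⟨algebraMap R C s * c i, ?_⟩
      rw [map_mul, hφ, hs, map_mul]
      show _ * ((1 : S) ⊗ₜ[R] (c i : B)) = _
      exact scale_aux (k := R) (M := S ⊗[R] B) s (t i) (P.coeff i) _ (hc i)
    · subst hi
      rw [Nat.sub_self, pow_zero, map_one, _root_.mul_one, ← Polynomial.leadingCoeff, hP.leadingCoeff]
      exact ⟨1, map_one φ⟩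
    · rw [Polynomial.coeff_eq_zero_of_natDegree_lt hi, zero_mul]
      exact ⟨0, map_zero φ⟩
  obtain ⟨Q, hQ, -, hQm⟩ := Polynomial.lifts_and_degree_eq_and_monic hlift ((Polynomial.monic_scaleRoots_iff _).2 hP)
  haveI : Nontrivial C := φ.domain_nontrivial
  have h0 : P.eval₂ (RingHom.id _) ((1 : S) ⊗ₜ[R] f) = 0 := by
    exact H20Comod.FreeCharpoly.eval_coactCharpoly _
  have h1 : φ.comp (RingHom.id C) = φ := rfl
  have h2 : (1 : S) ⊗ₜ[R] (Polynomial.eval₂ C.val.toRingHom (T • f) (Polynomial.X * Q)) = 0 := by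
    show (Algebra.TensorProduct.includeRight : B →ₐ[R] S ⊗[R] B).toRingHom _ = 0
    rw [Polynomial.hom_eval₂, Polynomial.eval₂_mul, ← Polynomial.eval_map (p := Q), hQ]
    have h3 := Polynomial.scaleRoots_eval₂_eq_zero (RingHom.id (S ⊗[R] B)) (s := algebraMap R (S ⊗[R] B) T) h0
    rw [RingHom.id_apply] at h3
    have h4 : (Algebra.TensorProduct.includeRight : B →ₐ[R] S ⊗[R] B).toRingHom (T • f) =
        algebraMap R (S ⊗[R] B) T * ((1 : S) ⊗ₜ[R] f) := by
      show (Algebra.TensorProduct.includeRight : B →ₐ[R] S ⊗[R] B) (T • f) = _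
      rw [map_smul, Algebra.smul_def]
      rfl
    rw [h4, Polynomial.eval, h3, mul_zero]
  obtain ⟨⟨t', ht'⟩, h5⟩ := (IsLocalizedModule.eq_zero_iff q.primeCompl (TensorProduct.mk R S B 1)).1 h2
  refine ⟨t' * T, q.primeCompl.mul_mem ht' hT, (Polynomial.X * Q).scaleRoots (algebraMap R C t'),
    (Polynomial.monic_scaleRoots_iff _).2 (Polynomial.monic_X.mul hQm), ?_⟩
  have e : (t' * T) • f = algebraMap C B (algebraMap R C t') * (T • f) := by
    rw [mul_smul, Algebra.smul_def t', ← IsScalarTower.algebraMap_apply]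
  rw [e, Polynomial.scaleRoots_eval₂_mul, Polynomial.monic_X.natDegree_mul hQm,
    Polynomial.natDegree_X, pow_add, pow_one, mul_right_comm, ← IsScalarTower.algebraMap_apply, ← Algebra.smul_def]
  have h6 : t' • Polynomial.eval₂ (algebraMap C B) (T • f) (Polynomial.X * Q) = 0 := h5
  rw [h6, zero_mul]

theorem isIntegral_invariants : Algebra.IsIntegral (GLin.invariants R A B) B := by
  refine ⟨fun f => ?_⟩
  let I : Ideal R :=
    { carrier := {r | _root_.IsIntegral (GLin.invariants R A B) (r • f)}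
      add_mem' := fun {a b} ha hb => by
        show _root_.IsIntegral (GLin.invariants R A B) ((a + b) • f)
        rw [add_smul]; exact ha.add hb
      zero_mem' := by
        show _root_.IsIntegral (GLin.invariants R A B) ((0 : R) • f)
        rw [zero_smul]; exact isIntegral_zero
      smul_mem' := fun a r hr => by
        show _root_.IsIntegral (GLin.invariants R A B) ((a • r) • f)
        rw [smul_assoc]; exact hr.smul a }
  have hI : I = ⊤ := by
    by_contra h
    obtain ⟨m, hm, hle⟩ := Ideal.exists_le_maximal I h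
    obtain ⟨t, ht, hti⟩ := isIntegral_smul_of_prime (A := A) m f
    exact ht (hle hti)
  have h1 : (1 : R) ∈ I := hI ▸ Submodule.mem_top
  have h2 : _root_.IsIntegral (GLin.invariants R A B) ((1 : R) • f) := h1
  rwa [one_smul] at h2

theorem exists_free_cut {K : Type u} [Field K] [Algebra R K] (x : B →ₐ[R] K) (hx : InertTriv A x) :
    ∃ c : GLin.invariants R A B, x c ≠ 0 ∧ ∀ (L : Type u) [CommRing L] [Algebra R L] (ζ : B →ₐ[R] L) (g : A →ₐ[R] L),
      IsUnit (ζ c) → move ζ g = ζ → g = (1 : WithConv (A →ₐ[R] L)).ofConv := by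
  haveI := isIntegral_invariants (R := R) (A := A) (B := B)
  set C := GLin.invariants R A B
  let y : Ideal C := RingHom.ker (x.toRingHom.comp C.val.toRingHom)
  haveI : y.IsPrime := RingHom.ker_isPrime _
  let BA := B ⊗[R] A
  let π : BA →ₐ[B] B := Algebra.TensorProduct.lift (AlgHom.id B B) ((Algebra.ofId R B).comp (Bialgebra.counitAlgHom R A))
    fun _ _ => .all _ _
  let J : Ideal BA := Ideal.span (Set.range fun b : B => GLin.coactAlgHom R A B b - b ⊗ₜ[R] (1 : A))
  have hJπ : ∀ j ∈ J, π j = 0 := fun j hj => by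
    refine (Ideal.span_le (I := RingHom.ker π)).2 ?_ hj
    rintro _ ⟨b, rfl⟩
    have hc := LinearMap.congr_fun (Comod.counit_comp (k := R) (A := A) (V := B)) b
    simp only [LinearMap.coe_comp, Function.comp_apply, LinearMap.flip_apply, TensorProduct.mk_apply] at hc
    have h2 : ∀ t : BA, π t = TensorProduct.rid R B ((CoalgebraStruct.counit (R := R) (A := A)).lTensor B t) := fun t => by
      induction t using TensorProduct.induction_on with
      | zero => simp
      | tmul p q =>
        rw [Algebra.TensorProduct.lift_tmul, LinearMap.lTensor_tmul, TensorProduct.rid_tmul, Algebra.smul_def, mul_comm]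
        rfl
      | add u v hu hv => simp only [map_add, hu, hv]
    rw [SetLike.mem_coe, RingHom.mem_ker, map_sub, h2, h2, GLin.coactAlgHom_apply, hc, LinearMap.lTensor_tmul,
      Bialgebra.counit_one, sub_self]
  let N := (BA ⧸ J) ⧸ LinearMap.range (Algebra.linearMap B (BA ⧸ J))
  let mkQ : (BA ⧸ J) →ₗ[B] N := Submodule.mkQ _
  haveI : Module.Finite B N := Module.Finite.of_surjective
    (mkQ ∘ₗ (Ideal.Quotient.mkₐ B J).toLinearMap)
    ((Submodule.mkQ_surjective _).comp Ideal.Quotient.mk_surjective)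
  have hp : ∀ p : PrimeSpectrum B, p.asIdeal.comap C.val.toRingHom = y → p ∉ Module.support B N := by
    intro p hpy hmem
    rw [Module.mem_support_iff_nontrivial_residueField_tensorProduct] at hmem
    let κ := p.asIdeal.ResidueField
    let h₀ : B →ₐ[R] κ := IsScalarTower.toAlgHom R B κ
    have ht : InertTriv A h₀ := inertTriv_of_ker_eq x h₀ (by
      show y = _
      rw [← hpy]
      ext c
      exact (Ideal.algebraMap_residueField_eq_zero (I := p.asIdeal) (x := (c : B))).symm) hx
    let hL : κ →ₐ[R] κ ⊗[B] (BA ⧸ J) := Algebra.TensorProduct.includeLeft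
    let Λ : BA →ₐ[R] κ ⊗[B] (BA ⧸ J) :=
      ((Algebra.TensorProduct.includeRight : (BA ⧸ J) →ₐ[B] κ ⊗[B] (BA ⧸ J)).restrictScalars R).comp (Ideal.Quotient.mkₐ R J)
    have hb : ∀ b : B, Λ (b ⊗ₜ[R] (1 : A)) = hL (h₀ b) := fun b => by
      show (1 : κ) ⊗ₜ[B] (algebraMap B (BA ⧸ J) b) = algebraMap B κ b ⊗ₜ[B] (1 : BA ⧸ J)
      rw [Algebra.algebraMap_eq_smul_one, Algebra.algebraMap_eq_smul_one, smul_tmul]
    have hkill := eq_counit_of_inertTriv (L := κ ⊗[B] (BA ⧸ J)) h₀ ht Λ hL hb fun b => by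
      rw [← sub_eq_zero, ← map_sub]
      show (1 : κ) ⊗ₜ[B] Ideal.Quotient.mk J _ = 0
      rw [Ideal.Quotient.eq_zero_iff_mem.2 (show _ ∈ J from Ideal.subset_span (Set.mem_range_self b)), TensorProduct.tmul_zero]
    have hz : ∀ w : BA, mkQ.lTensor κ (Λ w) = 0 := by
      intro w
      induction w using TensorProduct.induction_on with
      | zero => simp
      | add u v hu hv => rw [map_add, map_add, hu, hv, add_zero]
      | tmul b a =>
        rw [hkill b a]
        have h3 : ∀ k : κ, mkQ.lTensor κ (hL k) = 0 := fun k => by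
          show k ⊗ₜ[B] mkQ (1 : BA ⧸ J) = 0
          rw [show mkQ (1 : BA ⧸ J) = 0 from (Submodule.Quotient.mk_eq_zero _).2 ⟨1, map_one (algebraMap B (BA ⧸ J))⟩, TensorProduct.tmul_zero]
        exact h3 _
    refine not_subsingleton (κ ⊗[B] N) (subsingleton_of_forall_eq 0 fun z => ?_)
    induction z using TensorProduct.induction_on with
    | zero => rfl
    | add u v hu hv => rw [hu, hv, add_zero]
    | tmul k n =>
      obtain ⟨q', rfl⟩ := Submodule.mkQ_surjective _ n
      obtain ⟨w, rfl⟩ := Ideal.Quotient.mk_surjective q'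
      have h := hz w
      rw [show k = k • (1 : κ) by rw [smul_eq_mul, _root_.mul_one], ← TensorProduct.smul_tmul']
      exact (congrArg (k • ·) h).trans (smul_zero k)
  have hann : ¬ (Module.annihilator B N).comap C.val.toRingHom ≤ y := by
    intro hle
    obtain ⟨Q, hQ, hQp, hQy⟩ := Ideal.exists_ideal_over_prime_of_isIntegral y (Module.annihilator B N) hle
    refine hp ⟨Q, hQp⟩ hQy ?_
    rw [Module.support_eq_zeroLocus]
    exact hQ
  obtain ⟨c, hc, hcy⟩ := SetLike.not_le_iff_exists.1 hann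
  refine ⟨c, hcy, fun L _ _ ζ g hu hg => AlgHom.ext fun a => hu.mul_left_cancel ?_⟩
  let Λ : BA →ₐ[R] L := Algebra.TensorProduct.lift ζ g fun _ _ => .all _ _
  have hJ : ∀ j ∈ J, Λ j = 0 := fun j hj => by
    refine (Ideal.span_le (I := RingHom.ker Λ)).2 ?_ hj
    rintro _ ⟨b, rfl⟩
    rw [SetLike.mem_coe, RingHom.mem_ker, map_sub, Algebra.TensorProduct.lift_tmul, map_one, _root_.mul_one, sub_eq_zero]
    exact AlgHom.congr_fun hg b
  have h0 := Module.mem_annihilator.1 (show (c : B) ∈ Module.annihilator B N from hc) (mkQ (Ideal.Quotient.mk J ((1 : B) ⊗ₜ[R] a)))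
  rw [← map_smul, Submodule.mkQ_apply, Submodule.Quotient.mk_eq_zero] at h0
  obtain ⟨b, hb⟩ := h0
  have hmem : b ⊗ₜ[R] (1 : A) - (c : B) ⊗ₜ[R] a ∈ J := by
    refine Ideal.Quotient.eq.1 (hb.trans ?_)
    show (c : B) • Ideal.Quotient.mk J ((1 : B) ⊗ₜ[R] a) = _
    rw [← Ideal.Quotient.mkₐ_eq_mk B, ← map_smul, smul_tmul', smul_eq_mul, _root_.mul_one]
  have h1 := hJ _ hmem
  have h2 := hJπ _ hmem
  rw [map_sub, Algebra.TensorProduct.lift_tmul, Algebra.TensorProduct.lift_tmul, map_one, _root_.mul_one,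
    sub_eq_zero] at h1
  rw [map_sub, Algebra.TensorProduct.lift_tmul, Algebra.TensorProduct.lift_tmul, map_one, _root_.mul_one,
    sub_eq_zero] at h2
  rw [AlgHom.id_apply] at h2
  rw [← h1, h2, map_mul, AlgHom.convOne_apply]
  congr 1
  exact ζ.commutes _

end

end Groth.Agent.H20Inertia
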