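import Groth.Agent.H20Inertia.Transitive
import Groth.Prelude.Def_CoactBr
import Mathlib.AlgebraicGeometry.GammaSpecAdjunction
import Mathlib.RingTheory.Nakayama
import Mathlib.RingTheory.Ideal.GoingUp

/-!
Inertia of actions of affine group schemes on affine schemes: points of arbitrary schemes through
global sections, triviality of inertia along an orbit, freeness.
-/

set_option autoImplicit false

universe u

open TensorProduct HopfRep CategoryTheory MonoidalCategory CartesianMonoidalCategory MonObj AlgebraicGeometry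

namespace Groth.Agent.H20Inertia

noncomputable section

variable {R : Type u} [CommRing R]

section Gamma

variable (T : Over (Spec (CommRingCat.of R)))

/-- Global sections over the base. -/
def structureHom : R →+* Γ(T.left, ⊤) :=
  ((Scheme.ΓSpecIso (CommRingCat.of R)).inv ≫ T.hom.appTop).hom

omit [CommRing R] in
theorem toSpecΓ_factor {X : Scheme.{u}} {C : CommRingCat.{u}} (f : X ⟶ Spec C) :
    X.toSpecΓ ≫ Spec.map ((Scheme.ΓSpecIso C).inv ≫ f.appTop) = f := by
  rw [Spec.map_comp, ← Category.assoc, ← Scheme.toSpecΓ_naturality, Category.assoc, toSpecΓ_SpecMap_ΓSpecIso_inv]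
  exact Category.comp_id _

omit [CommRing R] in
theorem toSpecΓ_cancel {X : Scheme.{u}} {C : CommRingCat.{u}} (φ ψ : C ⟶ Γ(X, ⊤))
    (h : X.toSpecΓ ≫ Spec.map φ = X.toSpecΓ ≫ Spec.map ψ) : φ = ψ := by
  have h1 := congrArg Scheme.Hom.appTop h
  rw [Scheme.Hom.comp_appTop, Scheme.Hom.comp_appTop, Scheme.toSpecΓ_appTop, Scheme.ΓSpecIso_naturality,
    Scheme.ΓSpecIso_naturality] at h1
  exact (Iso.cancel_iso_hom_left _ _ _).1 h1

omit [CommRing R] in
theorem factor_comp {X : Scheme.{u}} {C D : CommRingCat.{u}} (f : X ⟶ Spec C) (φ : D ⟶ C) :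
    φ ≫ (Scheme.ΓSpecIso C).inv ≫ f.appTop = (Scheme.ΓSpecIso D).inv ≫ (f ≫ Spec.map φ).appTop := by
  rw [Scheme.Hom.comp_appTop, ← Category.assoc, ← Category.assoc, Scheme.ΓSpecIso_inv_naturality]

theorem exists_pt_factor :
    ∃ (L : Type u) (_ : CommRing L) (_ : Algebra R L) (τ : T ⟶ CoactBr.sp R L),
      ∀ (X : Type u) [CommRing X] [Algebra R X],
        (∀ f : T ⟶ CoactBr.sp R X, ∃ φ : X →ₐ[R] L, f = τ ≫ CoactBr.pt φ) ∧
        (∀ φ ψ : X →ₐ[R] L, τ ≫ CoactBr.pt φ = τ ≫ CoactBr.pt ψ → φ = ψ) := by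
  letI : Algebra R Γ(T.left, ⊤) := (structureHom T).toAlgebra
  have hτ : T.left.toSpecΓ ≫ Spec.map (CommRingCat.ofHom (algebraMap R Γ(T.left, ⊤))) = T.hom :=
    toSpecΓ_factor (C := CommRingCat.of R) T.hom
  refine ⟨Γ(T.left, ⊤), inferInstance, inferInstance, Over.homMk T.left.toSpecΓ hτ, fun X _ _ => ⟨fun f => ?_, ?_⟩⟩
  · let m : CommRingCat.of X ⟶ Γ(T.left, ⊤) := (Scheme.ΓSpecIso (CommRingCat.of X)).inv ≫ f.left.appTop
    have hm : T.left.toSpecΓ ≫ Spec.map m = f.left := toSpecΓ_factor (C := CommRingCat.of X) f.left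
    have hcomp : CommRingCat.ofHom (algebraMap R X) ≫ m =
        (Scheme.ΓSpecIso (CommRingCat.of R)).inv ≫ T.hom.appTop :=
      (factor_comp (C := CommRingCat.of X) (D := CommRingCat.of R) f.left (CommRingCat.ofHom (algebraMap R X))).trans
        (congrArg (fun e : T.left ⟶ Spec (CommRingCat.of R) => (Scheme.ΓSpecIso (CommRingCat.of R)).inv ≫ e.appTop) (Over.w f))
    exact ⟨{ m.hom with commutes' := fun r => RingHom.congr_fun (congrArg CommRingCat.Hom.hom hcomp) r },
      Over.OverMorphism.ext hm.symm⟩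
  · intro φ ψ h
    have h1 : T.left.toSpecΓ ≫ Spec.map (CommRingCat.ofHom φ.toRingHom) =
        T.left.toSpecΓ ≫ Spec.map (CommRingCat.ofHom ψ.toRingHom) :=
      congrArg (fun g : T ⟶ CoactBr.sp R X => g.left) h
    exact AlgHom.coe_ringHom_injective
      (congrArg CommRingCat.Hom.hom (toSpecΓ_cancel (C := CommRingCat.of X) _ _ h1))

end Gamma

variable {A B : Type u} [CommRing A] [HopfAlgebra R A] [CommRing B] [Algebra R B]
  [Comod R A B] [GLin.IsCoactAlg R A B]

theorem pt_move {L : Type u} [CommRing L] [Algebra R L] (x : B →ₐ[R] L) (g : A →ₐ[R] L) :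
    CoactBr.pt (move x g) = lift (CoactBr.pt x) (CoactBr.pt g) ≫ CoactBr.ract R A B :=
  (CoactBr.lift_pt_ract x g).symm

theorem pt_conv {L : Type u} [CommRing L] [Algebra R L] (a b : A →ₐ[R] L) :
    CoactBr.pt (WithConv.toConv a * WithConv.toConv b).ofConv = CoactBr.pt a * CoactBr.pt b :=
  map_mul Spec.mapMulEquiv (WithConv.toConv a) (WithConv.toConv b)

theorem move_move {L : Type u} [CommRing L] [Algebra R L] (x : B →ₐ[R] L) (a b : A →ₐ[R] L) :
    move (move x a) b = move x (WithConv.toConv a * WithConv.toConv b).ofConv := by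
  refine CoactBr.pt_injective ?_
  rw [pt_move, pt_move, pt_move, pt_conv, CoactBr.lift_ract_ract]

theorem pt_one_eq {L : Type u} [CommRing L] [Algebra R L] :
    CoactBr.pt ((1 : WithConv (A →ₐ[R] L)).ofConv) = 1 :=
  map_one Spec.mapMulEquiv

theorem move_one {L : Type u} [CommRing L] [Algebra R L] (x : B →ₐ[R] L) :
    move x (1 : WithConv (A →ₐ[R] L)).ofConv = x := by
  refine CoactBr.pt_injective ?_
  rw [pt_move, pt_one_eq, CoactBr.lift_one_ract]

theorem comp_move {L L' : Type u} [CommRing L] [Algebra R L] [CommRing L'] [Algebra R L'] (f : L →ₐ[R] L')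
    (x : B →ₐ[R] L) (g : A →ₐ[R] L) : f.comp (move x g) = move (f.comp x) (f.comp g) := by
  show f.comp ((Algebra.TensorProduct.lift x g fun _ _ => .all _ _).comp _) = _
  rw [← AlgHom.comp_assoc]
  congr 1
  exact Algebra.TensorProduct.ext' fun b a => by simp

omit [Comod R A B] [GLin.IsCoactAlg R A B] in
theorem comp_one {L L' : Type u} [CommRing L] [Algebra R L] [CommRing L'] [Algebra R L'] (f : L →ₐ[R] L') :
    f.comp (1 : WithConv (A →ₐ[R] L)).ofConv = (1 : WithConv (A →ₐ[R] L')).ofConv := by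
  refine CoactBr.pt_injective ?_
  rw [CoactBr.pt_comp, pt_one_eq, pt_one_eq, MonObj.comp_one]

variable (A) in
/-- Trivial inertia at a point, on rings. -/
def InertTriv {K : Type u} [CommRing K] [Algebra R K] (x : B →ₐ[R] K) : Prop :=
  ∀ (L : Type u) [CommRing L] [Algebra R L] (h : K →ₐ[R] L) (g : A →ₐ[R] L),
    move (h.comp x) g = h.comp x → g = (1 : WithConv (A →ₐ[R] L)).ofConv

omit [Comod R A B] [GLin.IsCoactAlg R A B] in
theorem lift_eq_iff [Comod R A B] [GLin.IsCoactAlg R A B] {T : Over (Spec (CommRingCat.of R))}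
    (g : T ⟶ CoactBr.sp R A) (ζ : T ⟶ CoactBr.sp R B) :
    lift g ζ ≫ (CoactBr.action R A B).act = ζ ↔ lift ζ g⁻¹ ≫ CoactBr.ract R A B = ζ := by
  rw [CoactBr.lift_action_act]

theorem inertTriv_iff {K : Type u} [CommRing K] [Algebra R K] (x : B →ₐ[R] K) :
    (∀ (T : Over (Spec (CommRingCat.of R))) (h : T ⟶ CoactBr.sp R K) (g : T ⟶ CoactBr.sp R A),
        lift g (h ≫ CoactBr.pt x) ≫ (CoactBr.action R A B).act = h ≫ CoactBr.pt x → g = 1) ↔
      InertTriv A x := by
  constructor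
  · intro H L _ _ h g hg
    refine CoactBr.pt_injective ?_
    rw [pt_one_eq, ← inv_eq_one]
    refine H _ (CoactBr.pt h) _ ?_
    rw [lift_eq_iff, inv_inv, ← CoactBr.pt_comp, ← pt_move, hg]
  · intro H T h g hg
    obtain ⟨L, _, _, τ, hτ⟩ := exists_pt_factor T
    obtain ⟨h', rfl⟩ := (hτ K).1 h
    obtain ⟨g', hg'⟩ := (hτ A).1 g⁻¹
    rw [lift_eq_iff, hg', Category.assoc, ← CoactBr.pt_comp, ← comp_lift, Category.assoc, ← pt_move] at hg
    have := H L h' g' ((hτ B).2 _ _ hg)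
    rw [← inv_inj, inv_one, hg', this, pt_one_eq, MonObj.comp_one]

omit [CommRing R] in
theorem exists_common_field_aux (F K₁ K₂ : Type u) [Field F] [Field K₁] [Field K₂] (g₁ : F →+* K₁) (g₂ : F →+* K₂) :
    ∃ (Ω : Type u) (_ : Field Ω) (_ : IsAlgClosed Ω) (j₁ : K₁ →+* Ω) (j₂ : K₂ →+* Ω), j₁.comp g₁ = j₂.comp g₂ := by
  letI := g₁.toAlgebra
  letI := g₂.toAlgebra
  obtain ⟨M, hM⟩ := Ideal.exists_maximal (K₁ ⊗[F] K₂)
  letI := Ideal.Quotient.field M
  refine ⟨AlgebraicClosure ((K₁ ⊗[F] K₂) ⧸ M), inferInstance, inferInstance,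
    ((algebraMap _ _).comp (Ideal.Quotient.mk M)).comp Algebra.TensorProduct.includeLeftRingHom,
    ((algebraMap _ _).comp (Ideal.Quotient.mk M)).comp
      (Algebra.TensorProduct.includeRight : K₂ →ₐ[F] K₁ ⊗[F] K₂).toRingHom, ?_⟩
  refine RingHom.ext fun c => ?_
  show algebraMap _ _ (Ideal.Quotient.mk M (algebraMap F (K₁ ⊗[F] K₂) c)) = algebraMap _ _ (Ideal.Quotient.mk M _)
  exact congrArg _ (congrArg _ ((Algebra.TensorProduct.includeRight : K₂ →ₐ[F] K₁ ⊗[F] K₂).commutes c).symm)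

omit [CommRing R] in
theorem exists_common_field_domain {D K₁ K₂ : Type u} [CommRing D] [IsDomain D] [Field K₁] [Field K₂]
    (f₁ : D →+* K₁) (f₂ : D →+* K₂) (h₁ : Function.Injective f₁) (h₂ : Function.Injective f₂) :
    ∃ (Ω : Type u) (_ : Field Ω) (_ : IsAlgClosed Ω) (j₁ : K₁ →+* Ω) (j₂ : K₂ →+* Ω), j₁.comp f₁ = j₂.comp f₂ := by
  obtain ⟨Ω, _, _, j₁, j₂, hj⟩ := exists_common_field_aux (FractionRing D) K₁ K₂
    (IsFractionRing.lift (g := f₁) h₁) (IsFractionRing.lift (g := f₂) h₂)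
  refine ⟨Ω, inferInstance, inferInstance, j₁, j₂, RingHom.ext fun d => ?_⟩
  have h := RingHom.congr_fun hj (algebraMap D (FractionRing D) d)
  simpa only [RingHom.comp_apply, IsFractionRing.lift_algebraMap] using h

theorem exists_common_field {K₁ K₂ : Type u} [Field K₁] [Algebra R K₁] [Field K₂] [Algebra R K₂]
    (hq : RingHom.ker (algebraMap R K₁) = RingHom.ker (algebraMap R K₂)) :
    ∃ (Ω : Type u) (_ : Field Ω) (_ : IsAlgClosed Ω) (_ : Algebra R Ω) (_ : K₁ →ₐ[R] Ω) (_ : K₂ →ₐ[R] Ω), True := by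
  haveI := RingHom.ker_isPrime (algebraMap R K₁)
  obtain ⟨Ω, _, _, j₁, j₂, hj⟩ := exists_common_field_domain (D := R ⧸ RingHom.ker (algebraMap R K₁))
    (Ideal.Quotient.lift _ (algebraMap R K₁) fun a ha => ha)
    (Ideal.Quotient.lift _ (algebraMap R K₂) fun a ha => by rw [hq] at ha; exact ha)
    (RingHom.lift_injective_of_ker_le_ideal _ _ le_rfl) (RingHom.lift_injective_of_ker_le_ideal _ _ hq.ge)
  letI : Algebra R Ω := (j₁.comp (algebraMap R K₁)).toAlgebra
  exact ⟨Ω, inferInstance, inferInstance, inferInstance, { j₁ with commutes' := fun r => rfl },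
    { j₂ with commutes' := fun r => (RingHom.congr_fun hj (Ideal.Quotient.mk _ r)).symm }, trivial⟩

variable [Module.Finite R A]

theorem inertTriv_of_ker_eq [Module.Flat R A] {K₁ K₂ : Type u} [Field K₁] [Algebra R K₁] [Field K₂] [Algebra R K₂]
    (x₁ : B →ₐ[R] K₁) (x₂ : B →ₐ[R] K₂)
    (hq : RingHom.ker (x₁.toRingHom.comp (GLin.invariants R A B).val.toRingHom) =
      RingHom.ker (x₂.toRingHom.comp (GLin.invariants R A B).val.toRingHom))
    (h₁ : InertTriv A x₁) : InertTriv A x₂ := by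
  intro L _ _ h g hg
  let C := GLin.invariants R A B
  letI : Algebra C K₁ := (x₁.toRingHom.comp C.val.toRingHom).toAlgebra
  letI : Algebra C K₂ := (x₂.toRingHom.comp C.val.toRingHom).toAlgebra
  obtain ⟨Ω, _, _, _, i₁, i₂, -⟩ := exists_common_field (R := C) (K₁ := K₁) (K₂ := K₂) hq
  letI : Algebra R Ω := ((algebraMap C Ω).comp (algebraMap R C)).toAlgebra
  let j₁ : K₁ →ₐ[R] Ω := { i₁.toRingHom with
    commutes' := fun r =>
      (congrArg i₁ (x₁.commutes r).symm).trans (i₁.commutes (algebraMap R C r)) }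
  let j₂ : K₂ →ₐ[R] Ω := { i₂.toRingHom with
    commutes' := fun r =>
      (congrArg i₂ (x₂.commutes r).symm).trans (i₂.commutes (algebraMap R C r)) }
  obtain ⟨γ, hγ⟩ := exists_move_eq_of_agree (A := A) (j₁.comp x₁) (j₂.comp x₂) fun f hf =>
    (i₁.commutes ⟨f, hf⟩).trans (i₂.commutes ⟨f, hf⟩).symm
  letI : Algebra K₂ Ω := j₂.toRingHom.toAlgebra
  letI : Algebra K₂ L := h.toRingHom.toAlgebra
  haveI : IsScalarTower R K₂ L := IsScalarTower.of_algebraMap_eq fun r => (h.commutes r).symm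
  haveI : IsScalarTower R K₂ Ω := IsScalarTower.of_algebraMap_eq fun r => (j₂.commutes r).symm
  let iΩ : Ω →ₐ[R] Ω ⊗[K₂] L := (Algebra.TensorProduct.includeLeft : Ω →ₐ[R] Ω ⊗[K₂] L)
  let iL : L →ₐ[R] Ω ⊗[K₂] L := (Algebra.TensorProduct.includeRight : L →ₐ[K₂] Ω ⊗[K₂] L).restrictScalars R
  have hinj : Function.Injective iL :=
    Algebra.TensorProduct.includeRight_injective (algebraMap K₂ Ω).injective
  have hcomm : iL.comp h = iΩ.comp j₂ := AlgHom.ext fun c => by
    show (1 : Ω) ⊗ₜ[K₂] (algebraMap K₂ L c) = (algebraMap K₂ Ω c) ⊗ₜ[K₂] (1 : L)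
    rw [Algebra.algebraMap_eq_smul_one, Algebra.algebraMap_eq_smul_one, smul_tmul]
  set z := (iΩ.comp j₁).comp x₁
  have hz : move z (iΩ.comp γ) = (iΩ.comp j₂).comp x₂ := by
    rw [AlgHom.comp_assoc iΩ j₂, hγ, comp_move, ← AlgHom.comp_assoc]
  have hfix : move ((iΩ.comp j₂).comp x₂) (iL.comp g) = (iΩ.comp j₂).comp x₂ := by
    rw [← hcomm, AlgHom.comp_assoc]
    exact (comp_move iL (h.comp x₂) g).symm.trans (congrArg iL.comp hg)
  let P := CoactBr.pt (iΩ.comp γ)
  let G := CoactBr.pt (iL.comp g)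
  let q : A →ₐ[R] Ω ⊗[K₂] L := (WithConv.toConv (WithConv.toConv (iΩ.comp γ) * WithConv.toConv (iL.comp g)).ofConv *
    WithConv.toConv ((iΩ.comp γ).comp (HopfAlgebra.antipodeAlgHom R A))).ofConv
  have hq' : CoactBr.pt q = P * G * P⁻¹ := by
    rw [pt_conv, pt_conv, ← CoactBr.pt_inv]
  have h3 : move z q = z := by
    refine CoactBr.pt_injective ?_
    rw [pt_move, hq', ← CoactBr.lift_ract_ract, ← CoactBr.lift_ract_ract]
    show lift (lift (lift (CoactBr.pt z) (CoactBr.pt (iΩ.comp γ)) ≫ _) (CoactBr.pt (iL.comp g)) ≫ _) P⁻¹ ≫ _ = _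
    rw [← pt_move, ← pt_move, hz, hfix, ← hz, pt_move, CoactBr.lift_ract_ract, mul_inv_cancel, CoactBr.lift_one_ract]
  have h4 : P * G * P⁻¹ = 1 := by
    rw [← hq', h₁ _ (iΩ.comp j₁) q h3, pt_one_eq]
  have h5 : CoactBr.pt (iL.comp g) = 1 :=
    mul_left_cancel (a := P) ((mul_inv_eq_one.1 h4).trans (_root_.mul_one P).symm)
  refine AlgHom.ext fun a => hinj ?_
  rw [← AlgHom.comp_apply, ← AlgHom.comp_apply, comp_one, CoactBr.pt_injective (h5.trans pt_one_eq.symm)]

theorem inertTriv_of_inertTriv [Module.Flat R A]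
    (hC : ∀ f : B, Comod.coact (k := R) (A := A) f = f ⊗ₜ[R] (1 : A) → f ∈ Set.range (algebraMap R B))
    {K₁ K₂ : Type u} [Field K₁] [Algebra R K₁] [Field K₂] [Algebra R K₂]
    (hq : RingHom.ker (algebraMap R K₁) = RingHom.ker (algebraMap R K₂))
    (x₁ : B →ₐ[R] K₁) (x₂ : B →ₐ[R] K₂) (h₁ : InertTriv A x₁) : InertTriv A x₂ := by
  refine inertTriv_of_ker_eq x₁ x₂ (Ideal.ext fun c => ?_) h₁
  obtain ⟨r, hr⟩ := hC c.1 c.2
  show x₁ c.1 = 0 ↔ x₂ c.1 = 0
  rw [← hr, x₁.commutes, x₂.commutes]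
  exact Ideal.ext_iff.1 hq r

theorem isIntegral_of_invariants [Module.Free R A]
    (hC : ∀ f : B, Comod.coact (k := R) (A := A) f = f ⊗ₜ[R] (1 : A) → f ∈ Set.range (algebraMap R B)) :
    Algebra.IsIntegral R B := by
  refine ⟨fun f => ?_⟩
  let χ := H20Comod.FreeCharpoly.coactCharpoly R A B f
  have hmem : χ ∈ Polynomial.lifts (algebraMap R B) := (Polynomial.lifts_iff_coeff_lifts χ).2 fun i => hC _ (by
    have := congrArg (Polynomial.coeff · i) (H20Comod.FreeCharpoly.coactCharpoly_map_coact (k := R) (A := A) f)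
    simp only [Polynomial.coeff_map] at this
    exact this)
  have hmonic : χ.Monic := LinearMap.charpoly_monic _
  rcases subsingleton_or_nontrivial B with hB | hB
  · exact ⟨1, Polynomial.monic_one, Subsingleton.elim _ _⟩
  obtain ⟨p, hp, -, hpm⟩ := Polynomial.lifts_and_degree_eq_and_monic hmem hmonic
  refine ⟨p, hpm, ?_⟩
  rw [← Polynomial.eval_map, hp]
  exact H20Comod.FreeCharpoly.eval_coactCharpoly f

theorem free_of_inertTriv [IsLocalRing R] [Module.Flat R A]
    (hC : ∀ f : B, Comod.coact (k := R) (A := A) f = f ⊗ₜ[R] (1 : A) → f ∈ Set.range (algebraMap R B))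
    {K : Type u} [Field K] [Algebra R K] (hK : RingHom.ker (algebraMap R K) = IsLocalRing.maximalIdeal R)
    (x : B →ₐ[R] K) (hx : InertTriv A x) :
    ∀ (L : Type u) [CommRing L] [Algebra R L] (ζ : B →ₐ[R] L) (g : A →ₐ[R] L),
      move ζ g = ζ → g = (1 : WithConv (A →ₐ[R] L)).ofConv := by
  haveI : Module.Free R A := Module.free_of_flat_of_isLocalRing
  haveI := isIntegral_of_invariants (A := A) hC
  let C := B ⊗[R] A
  let π : C →ₐ[B] B := Algebra.TensorProduct.lift (AlgHom.id B B) ((Algebra.ofId R B).comp (Bialgebra.counitAlgHom R A))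
    fun _ _ => .all _ _
  let J : Ideal C := Ideal.span (Set.range fun b : B => GLin.coactAlgHom R A B b - b ⊗ₜ[R] (1 : A))
  let e : C →ₗ[B] C := LinearMap.id - (Algebra.linearMap B C) ∘ₗ π.toLinearMap
  let N : Submodule B (C ⧸ J) := (LinearMap.range e).map (Ideal.Quotient.mkₐ B J).toLinearMap
  have hJπ : ∀ j ∈ J, π j = 0 := fun j hj => by
    refine (Ideal.span_le (I := RingHom.ker π)).2 ?_ hj
    rintro _ ⟨b, rfl⟩
    have hc := LinearMap.congr_fun (Comod.counit_comp (k := R) (A := A) (V := B)) b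
    simp only [LinearMap.coe_comp, Function.comp_apply, LinearMap.flip_apply, TensorProduct.mk_apply] at hc
    have h2 : ∀ t : C, π t = TensorProduct.rid R B ((CoalgebraStruct.counit (R := R) (A := A)).lTensor B t) := fun t => by
      induction t using TensorProduct.induction_on with
      | zero => simp
      | tmul p q =>
        rw [Algebra.TensorProduct.lift_tmul, LinearMap.lTensor_tmul, TensorProduct.rid_tmul, Algebra.smul_def, mul_comm]
        rfl
      | add u v hu hv => simp only [map_add, hu, hv]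
    rw [SetLike.mem_coe, RingHom.mem_ker, map_sub, h2, h2, GLin.coactAlgHom_apply, hc, LinearMap.lTensor_tmul,
      Bialgebra.counit_one, sub_self]
  have key : ∀ (m : Ideal B), m.IsMaximal → N ≤ m • N := by
    intro m hm
    letI := Ideal.Quotient.field m
    let h₀ : B →ₐ[R] B ⧸ m := Ideal.Quotient.mkₐ R m
    have hm' : RingHom.ker (algebraMap R (B ⧸ m)) = IsLocalRing.maximalIdeal R := by
      rw [← IsLocalRing.eq_maximalIdeal (Ideal.isMaximal_comap_of_isIntegral_of_isMaximal (R := R) m)]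
      ext r
      exact Ideal.Quotient.eq_zero_iff_mem
    have ht := inertTriv_of_inertTriv hC (hK.trans hm'.symm) x h₀ hx
    let mC : Ideal C := m.map (algebraMap B C)
    let L := C ⧸ (J ⊔ mC)
    let hL : (B ⧸ m) →ₐ[R] L := Ideal.Quotient.liftₐ m ((Ideal.Quotient.mkₐ R (J ⊔ mC)).comp Algebra.TensorProduct.includeLeft)
      fun b hb => Ideal.Quotient.eq_zero_iff_mem.2 (Ideal.mem_sup_right (Ideal.mem_map_of_mem _ hb))
    let gL : A →ₐ[R] L := (Ideal.Quotient.mkₐ R (J ⊔ mC)).comp Algebra.TensorProduct.includeRight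
    have hfix : move (hL.comp h₀) gL = hL.comp h₀ := by
      refine AlgHom.ext fun b => ?_
      show Algebra.TensorProduct.lift (hL.comp h₀) gL (fun _ _ => .all _ _) (GLin.coactAlgHom R A B b) = Ideal.Quotient.mk (J ⊔ mC) (b ⊗ₜ[R] (1 : A))
      have h4 : ∀ t : C, Algebra.TensorProduct.lift (hL.comp h₀) gL (fun _ _ => .all _ _) t = Ideal.Quotient.mk (J ⊔ mC) t := by
        intro t
        induction t using TensorProduct.induction_on with
        | zero => simp
        | tmul p q =>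
          rw [Algebra.TensorProduct.lift_tmul]
          show Ideal.Quotient.mk (J ⊔ mC) (p ⊗ₜ[R] (1 : A)) * Ideal.Quotient.mk (J ⊔ mC) ((1 : B) ⊗ₜ[R] q) = _
          rw [← map_mul, Algebra.TensorProduct.tmul_mul_tmul, _root_.mul_one, _root_.one_mul]
        | add u v hu hv => simp only [map_add, hu, hv]
      rw [h4]
      exact Ideal.Quotient.eq.2 (Ideal.mem_sup_left (Ideal.subset_span ⟨b, rfl⟩))
    have hg := ht L hL gL hfix
    have hgen : ∀ t : C, e t ∈ J ⊔ mC := by
      intro t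
      induction t using TensorProduct.induction_on with
      | zero => simp
      | add u v hu hv => rw [map_add]; exact add_mem hu hv
      | tmul b a =>
        have h1 : ((1 : B) ⊗ₜ[R] a - algebraMap R B (Bialgebra.counitAlgHom R A a) ⊗ₜ[R] (1 : A) : C) ∈ J ⊔ mC := by
          refine Ideal.Quotient.eq.1 ((AlgHom.congr_fun hg a).trans ?_)
          rw [AlgHom.convOne_apply]
          exact (((Ideal.Quotient.mkₐ R (J ⊔ mC)).comp Algebra.TensorProduct.includeLeft).commutes _).symm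
        have h2 : e (b ⊗ₜ[R] a) = (b ⊗ₜ[R] (1 : A)) *
            ((1 : B) ⊗ₜ[R] a - algebraMap R B (Bialgebra.counitAlgHom R A a) ⊗ₜ[R] (1 : A)) := by
          show b ⊗ₜ[R] a - algebraMap B C (π (b ⊗ₜ[R] a)) = _
          rw [mul_sub, Algebra.TensorProduct.tmul_mul_tmul, Algebra.TensorProduct.tmul_mul_tmul, _root_.mul_one, _root_.one_mul,
            _root_.mul_one, Algebra.TensorProduct.lift_tmul]
          rfl
        rw [h2]
        exact Ideal.mul_mem_left _ _ h1
    rintro _ ⟨_, ⟨t, rfl⟩, rfl⟩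
    obtain ⟨j, hj, c, hc, hjc⟩ := Submodule.mem_sup.1 (hgen t)
    have hee : e (e t) = e t := by
      show e t - algebraMap B C (π (e t)) = e t
      have : π (e t) = 0 := by
        show π (t - algebraMap B C (π t)) = 0
        rw [map_sub, AlgHom.commutes, Algebra.algebraMap_self, RingHom.id_apply, sub_self]
      rw [this, map_zero, sub_zero]
    have hej : e j = j := by
      show j - algebraMap B C (π j) = j
      rw [hJπ j hj, map_zero, sub_zero]
    rw [← hee, ← hjc, map_add, hej, map_add]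
    have hj0 : (Ideal.Quotient.mkₐ B J).toLinearMap j = 0 := Ideal.Quotient.eq_zero_iff_mem.2 hj
    rw [hj0, zero_add]
    have hc' : c ∈ m • (⊤ : Submodule B C) := by rw [Ideal.smul_top_eq_map]; exact hc
    refine Submodule.smul_induction_on hc' (fun r hr s _ => ?_) (fun u v hu hv => ?_)
    · rw [map_smul, map_smul]
      exact Submodule.smul_mem_smul hr ⟨e s, ⟨s, rfl⟩, rfl⟩
    · rw [map_add, map_add]
      exact add_mem hu hv
  have hN : N = ⊥ := by
    have hfg : N.FG := Submodule.FG.map _ (Module.Finite.iff_fg.1 (Module.Finite.range e))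
    by_contra hne
    obtain ⟨n, hn, hn0⟩ := Submodule.exists_mem_ne_zero_of_ne_bot hne
    have htop : N.annihilator ≠ ⊤ := fun h => hn0 (by
      have := Submodule.mem_annihilator.1 (h ▸ Submodule.mem_top : (1 : B) ∈ N.annihilator) n hn
      rwa [one_smul] at this)
    obtain ⟨m, hm, hle⟩ := Ideal.exists_le_maximal _ htop
    obtain ⟨r, hr, hr'⟩ := Submodule.exists_sub_one_mem_and_smul_eq_zero_of_fg_of_le_smul m N hfg (key m hm)
    refine hm.ne_top ((Ideal.eq_top_iff_one m).2 ?_)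
    have := m.sub_mem (hle (Submodule.mem_annihilator.2 hr')) hr
    rwa [sub_sub_cancel] at this
  intro L _ _ ζ g hg
  refine AlgHom.ext fun a => ?_
  let Λ : C →ₐ[R] L := Algebra.TensorProduct.lift ζ g fun _ _ => .all _ _
  have hJ : ∀ j ∈ J, Λ j = 0 := fun j hj => by
    refine (Ideal.span_le (I := RingHom.ker Λ)).2 ?_ hj
    rintro _ ⟨b, rfl⟩
    rw [SetLike.mem_coe, RingHom.mem_ker, map_sub, Algebra.TensorProduct.lift_tmul, map_one, _root_.mul_one, sub_eq_zero]
    exact AlgHom.congr_fun hg b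
  have h0 : e ((1 : B) ⊗ₜ[R] a) ∈ J := by
    have : (Ideal.Quotient.mkₐ B J).toLinearMap (e ((1 : B) ⊗ₜ[R] a)) ∈ N := ⟨_, ⟨_, rfl⟩, rfl⟩
    rw [hN] at this
    exact Ideal.Quotient.eq_zero_iff_mem.1 this
  have h1 := hJ _ h0
  have h2 : e ((1 : B) ⊗ₜ[R] a) =
      (1 : B) ⊗ₜ[R] a - algebraMap R B (Bialgebra.counitAlgHom R A a) ⊗ₜ[R] (1 : A) := by
    show (1 : B) ⊗ₜ[R] a - algebraMap B C (π ((1 : B) ⊗ₜ[R] a)) = _
    rw [Algebra.TensorProduct.lift_tmul, map_one, _root_.one_mul]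
    rfl
  rw [h2, map_sub, Algebra.TensorProduct.lift_tmul, Algebra.TensorProduct.lift_tmul, map_one, map_one, _root_.one_mul,
    _root_.mul_one, AlgHom.commutes, sub_eq_zero] at h1
  rw [h1, AlgHom.convOne_apply]
  rfl

end

end Groth.Agent.H20Inertia
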