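import Groth.Agent.H20Inertia.Basic
import Mathlib.LinearAlgebra.Eigenspace.Minpoly
import Mathlib.Data.Nat.Choose.Sum
import Mathlib.RingTheory.Polynomial.Basic
import Mathlib.FieldTheory.Minpoly.Field

/-!
The spectrum of the inertia operator.
-/

set_option autoImplicit false

open W4c5stacksedinertia Polynomial

namespace Groth.Agent.H20Inertia

noncomputable section

theorem eval_descPochhammer_natCast (r k : ℕ) :
    (descPochhammer ℚ r).eval (k : ℚ) = (k.descFactorial r : ℚ) :=
  descPochhammer_eval_eq_descFactorial ℚ k r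

theorem aeval_apply_eigen {μ : ℚ} {v : K} (hv : v ∈ Module.End.eigenspace inertia μ) (P : ℚ[X]) :
    aeval inertia P v = P.eval μ • v := by
  rcases eq_or_ne v 0 with rfl | hne
  · simp
  · exact Module.End.aeval_apply_of_hasEigenvector ⟨hv, hne⟩

theorem eigenspace_le (k r : ℕ) : Module.End.eigenspace inertia (k : ℚ) ≤
    Module.End.eigenspace (inertiaR r) ((k.descFactorial r : ℕ) : ℚ) := fun v hv => by
  rw [Module.End.mem_eigenspace_iff, inertiaR_eq_aeval, aeval_apply_eigen hv, eval_descPochhammer_natCast]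

theorem ker_inertiaR (r : ℕ) :
    LinearMap.ker (inertiaR r) = ⨆ k ∈ Finset.range r, Module.End.eigenspace inertia (k : ℚ) := by
  induction r with
  | zero =>
    rw [inertiaR_zero, Finset.range_zero]
    simp [Module.End.one_eq_id]
  | succ r ih =>
    have hcop : IsCoprime (descPochhammer ℚ r) (X - C (r : ℚ)) := by
      refine IsCoprime.symm ((irreducible_X_sub_C (r : ℚ)).coprime_iff_not_dvd.mpr ?_)
      rw [dvd_iff_isRoot, IsRoot, eval_descPochhammer_natCast, Nat.cast_eq_zero, Nat.descFactorial_eq_zero_iff_lt]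
      exact lt_irrefl r
    rw [inertiaR_eq_aeval, descPochhammer_succ_right, ← map_natCast C, ← sup_ker_aeval_eq_ker_aeval_mul_of_coprime _ hcop,
      ← inertiaR_eq_aeval, ih, Finset.range_add_one, Finset.iSup_insert, sup_comm]
    congr 1
    rw [Module.End.eigenspace_def, map_sub, aeval_X, aeval_C, Algebra.algebraMap_eq_smul_one]

theorem le_centerCard_pos (i : Idx) : 1 ≤ i.centerCard := Nat.card_pos

theorem centerCard_le_card (i : Idx) : i.centerCard ≤ i.card := (Subgroup.center i.rep).card_le_card_group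

theorem eq_zero_of_mem_Kge_of_mem_Kle {n k : ℕ} (h : n < k) {v : K} (h1 : v ∈ Kge k) (h2 : v ∈ Kle n) : v = 0 := by
  refine Finsupp.ext fun i => ?_
  by_contra hne
  have hi : i ∈ v.support := Finsupp.mem_support_iff.mpr hne
  have ha : k ≤ i.centerCard := (Finsupp.mem_supported ℚ v).mp h1 hi
  have hb : i.card ≤ n := (Finsupp.mem_supported ℚ v).mp h2 hi
  have := centerCard_le_card i
  omega

theorem iSup_eigenspace_eq_top : (⨆ n : ℕ, Module.End.eigenspace inertia (n : ℚ)) = ⊤ := by
  refine eq_top_iff.mpr fun v _ => ?_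
  obtain ⟨n, hv⟩ := exists_mem_Kle v
  have h : v ∈ LinearMap.ker (inertiaR (n + 1)) := inertiaR_eq_zero_of_mem_Kle n.lt_succ_self hv
  rw [ker_inertiaR] at h
  exact (iSup₂_le fun j _ => le_iSup (fun j : ℕ => Module.End.eigenspace inertia (j : ℚ)) j) h

theorem hasEigenvalue_iff (μ : ℚ) : Module.End.HasEigenvalue inertia μ ↔ ∃ n : ℕ, 0 < n ∧ μ = (n : ℚ) := by
  constructor
  · intro hμ
    obtain ⟨v, hv, hne⟩ := hμ.exists_hasEigenvector
    obtain ⟨N, hN⟩ := exists_mem_Kle v
    have h := inertiaR_eq_zero_of_mem_Kle N.lt_succ_self hN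
    rw [inertiaR_eq_aeval, aeval_apply_eigen hv, smul_eq_zero] at h
    have h' : (descPochhammer ℚ (N + 1)).eval μ = 0 := h.resolve_right hne
    rw [descPochhammer_eval_eq_prod_range, Finset.prod_eq_zero_iff] at h'
    obtain ⟨j, -, hj⟩ := h'
    refine ⟨j, Nat.pos_of_ne_zero ?_, sub_eq_zero.mp hj⟩
    rintro rfl
    rw [sub_eq_zero, Nat.cast_zero] at hj
    subst hj
    have hzero : inertia v = 0 := by rw [Module.End.mem_eigenspace_iff.mp hv, zero_smul]
    have hall : ∀ m : ℕ, v ∈ Kge (m + 1) := by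
      intro m
      induction m with
      | zero => exact (Finsupp.mem_supported ℚ v).mpr fun i _ => le_centerCard_pos i
      | succ m ih =>
        have h1 := inertiaR_sub_smul_mem_Kge 1 (m + 1) ih
        rw [show inertiaR 1 v = 0 from hzero, zero_sub, Nat.descFactorial_one] at h1
        have h2 := Submodule.smul_mem _ (((m + 1 : ℕ) : ℚ))⁻¹ (neg_mem h1)
        rwa [neg_neg, inv_smul_smul₀ (Nat.cast_ne_zero.mpr m.succ_ne_zero)] at h2
    exact hne (eq_zero_of_mem_Kge_of_mem_Kle N.lt_succ_self (hall N) hN)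
  · rintro ⟨n, hn, rfl⟩
    haveI : NeZero n := ⟨hn.ne'⟩
    let G := Multiplicative (ZMod n)
    have hcard : Nat.card G = n := by simp [G]
    have hZ : Nat.card (Subgroup.center G) = n := by
      rw [CommGroup.center_eq_top, Subgroup.card_top, hcard]
    have h1 := inertiaROf_sub_mem_Kge (G := G) 1 (k := n) hZ.ge
    rw [hZ, Nat.descFactorial_one] at h1
    have hcl : cl G ∈ Kle n := Finsupp.single_mem_supported ℚ 1 (by rw [Set.mem_ofPred_eq, card_of, hcard])
    have h2 := eq_zero_of_mem_Kge_of_mem_Kle n.lt_succ_self h1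
      (Submodule.sub_mem _ (inertiaROf_mem_Kle 1 hcard.le) (Submodule.smul_mem _ _ hcl))
    refine Module.End.hasEigenvalue_of_hasEigenvector (x := cl G) ⟨?_, ?_⟩
    · rw [Module.End.mem_eigenspace_iff, show inertia (cl G) = inertiaROf 1 G from inertiaR_cl 1]
      exact sub_eq_zero.mp h2
    · exact Finsupp.single_ne_zero.mpr one_ne_zero

theorem sum_choose_eq (N j k : ℕ) (hj : j ≤ N) :
    ∑ r ∈ Finset.range (N + 1), ((-1 : ℚ) ^ (r + k) / (r.factorial : ℚ) * (r.choose k : ℚ)) * (j.descFactorial r : ℚ) =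
      if j = k then 1 else 0 := by
  have hterm : ∀ r, ((-1 : ℚ) ^ (r + k) / (r.factorial : ℚ) * (r.choose k : ℚ)) * (j.descFactorial r : ℚ) =
      (-1 : ℚ) ^ (r + k) * ((j.choose r * r.choose k : ℕ) : ℚ) := by
    intro r
    rw [Nat.descFactorial_eq_factorial_mul_choose, Nat.cast_mul, Nat.cast_mul]
    have : (r.factorial : ℚ) ≠ 0 := Nat.cast_ne_zero.mpr r.factorial_ne_zero
    field_simp
  simp only [hterm]
  by_cases hkj : k ≤ j
  · rw [← Finset.sum_subset (s₁ := Finset.Ico k (j + 1)) (fun r hr => by simp at hr ⊢; omega) (fun r _ hr => by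
      simp only [Finset.mem_Ico, not_and_or, not_le, not_lt] at hr
      rcases hr with h | h
      · rw [Nat.choose_eq_zero_of_lt h, mul_zero, Nat.cast_zero, mul_zero]
      · rw [Nat.choose_eq_zero_of_lt (show j < r by omega), zero_mul, Nat.cast_zero, mul_zero]),
      Finset.sum_Ico_eq_sum_range]
    have e : ∀ i ∈ Finset.range (j + 1 - k), (-1 : ℚ) ^ (k + i + k) * ((j.choose (k + i) * (k + i).choose k : ℕ) : ℚ) =
        (j.choose k : ℚ) * ((-1 : ℚ) ^ i * ((j - k).choose i : ℚ)) := by
      intro i hi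
      rw [Nat.choose_mul (Nat.le_add_right k i), Nat.add_sub_cancel_left, Nat.cast_mul,
        show k + i + k = i + 2 * k by ring, pow_add, pow_mul, neg_one_sq, one_pow, mul_one]
      ring
    rw [Finset.sum_congr rfl e, ← Finset.mul_sum, show j + 1 - k = j - k + 1 by omega]
    have h := congrArg (fun z : ℤ => (z : ℚ)) (Int.alternating_sum_range_choose (n := j - k))
    push_cast at h
    rw [h]
    by_cases hjk : j = k
    · subst hjk; simp
    · rw [if_neg (show ¬ j - k = 0 by omega), if_neg hjk]; simp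
  · rw [if_neg (by omega), Finset.sum_eq_zero]
    intro r _
    rcases lt_or_ge r k with h | h
    · rw [Nat.choose_eq_zero_of_lt h, mul_zero, Nat.cast_zero, mul_zero]
    · rw [Nat.choose_eq_zero_of_lt (show j < r by omega), zero_mul, Nat.cast_zero, mul_zero]

theorem eigenprojection (v : K) :
    (∀ k : ℕ, (∑ᶠ r : ℕ, (((-1 : ℚ) ^ (r + k)) / (Nat.factorial r : ℚ) * (Nat.choose r k : ℚ)) •
        inertiaR r v) ∈ Module.End.eigenspace inertia (k : ℚ)) ∧
    (∑ᶠ k : ℕ, ∑ᶠ r : ℕ, (((-1 : ℚ) ^ (r + k)) / (Nat.factorial r : ℚ) * (Nat.choose r k : ℚ)) •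
        inertiaR r v) = v := by
  obtain ⟨N, hN⟩ := exists_mem_Kle v
  let P : ℕ → Module.End ℚ K := fun k =>
    ∑ r ∈ Finset.range (N + 1), (((-1 : ℚ) ^ (r + k)) / (Nat.factorial r : ℚ) * (Nat.choose r k : ℚ)) • inertiaR r
  have hfin : ∀ k, (∑ᶠ r : ℕ, (((-1 : ℚ) ^ (r + k)) / (Nat.factorial r : ℚ) * (Nat.choose r k : ℚ)) • inertiaR r v) =
      P k v := by
    intro k
    rw [finsum_eq_sum_of_support_subset _ (s := Finset.range (N + 1)) (fun r hr => by
      rw [Finset.coe_range, Set.mem_Iio]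
      by_contra h
      exact hr (by show _ • inertiaR r v = 0; rw [inertiaR_eq_zero_of_mem_Kle (show N < r by omega) hN, smul_zero])),
      LinearMap.sum_apply]
    rfl
  have hker : v ∈ ⨆ j ∈ Finset.range (N + 1), Module.End.eigenspace inertia (j : ℚ) := by
    rw [← ker_inertiaR]
    exact inertiaR_eq_zero_of_mem_Kle N.lt_succ_self hN
  have heig : ∀ j ∈ Finset.range (N + 1), ∀ w ∈ Module.End.eigenspace inertia (j : ℚ), ∀ k,
      P k w = if j = k then w else 0 := by
    intro j hj w hw k
    show (∑ r ∈ Finset.range (N + 1), (((-1 : ℚ) ^ (r + k)) / (Nat.factorial r : ℚ) * (Nat.choose r k : ℚ)) •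
      inertiaR r) w = _
    rw [LinearMap.sum_apply, Finset.sum_congr rfl fun r _ => show _ = ((((-1 : ℚ) ^ (r + k)) / (Nat.factorial r : ℚ) *
      (Nat.choose r k : ℚ)) * (j.descFactorial r : ℚ)) • w by
        rw [LinearMap.smul_apply, inertiaR_eq_aeval, aeval_apply_eigen hw, eval_descPochhammer_natCast, smul_smul],
      ← Finset.sum_smul]
    rw [sum_choose_eq N j k (Nat.lt_succ_iff.mp (Finset.mem_range.mp hj))]
    split_ifs <;> simp
  refine ⟨fun k => ?_, ?_⟩
  · rw [hfin]
    refine (show (⨆ j ∈ Finset.range (N + 1), Module.End.eigenspace inertia (j : ℚ)) ≤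
      (Module.End.eigenspace inertia (k : ℚ)).comap (P k) from iSup₂_le fun j hj w hw => ?_) hker
    rw [Submodule.mem_comap, heig j hj w hw k]
    split_ifs with h
    · exact h ▸ hw
    · exact zero_mem _
  · simp only [hfin]
    rw [finsum_eq_sum_of_support_subset _ (s := Finset.range (N + 1)) (fun k hk => by
      rw [Finset.coe_range, Set.mem_Iio]
      by_contra h
      refine hk ?_
      show P k v = 0
      rw [LinearMap.sum_apply]
      refine Finset.sum_eq_zero fun r hr => ?_
      rw [Finset.mem_range] at hr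
      rw [Nat.choose_eq_zero_of_lt (show r < k by omega), Nat.cast_zero, mul_zero, zero_smul, LinearMap.zero_apply]),
      ← LinearMap.sum_apply]
    refine (show (⨆ j ∈ Finset.range (N + 1), Module.End.eigenspace inertia (j : ℚ)) ≤
      LinearMap.eqLocus (∑ k ∈ Finset.range (N + 1), P k) (LinearMap.id : K →ₗ[ℚ] K) from iSup₂_le fun j hj w hw => ?_) hker
    show (∑ k ∈ Finset.range (N + 1), P k) w = w
    rw [LinearMap.sum_apply, Finset.sum_congr rfl fun k _ => heig j hj w hw k, Finset.sum_ite_eq, if_pos hj]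

end

end Groth.Agent.H20Inertia
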