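import Groth.Agent.H20Comod.FreeCharpoly
import Groth.Agent.H20Comod.OrbitClosure
import Groth.Prelude.Def_CoactBr2
import Mathlib.RingTheory.Flat.Localization
import Mathlib.RingTheory.LocalRing.Module
import Mathlib.FieldTheory.IsAlgClosed.AlgebraicClosure
import Mathlib.FieldTheory.RatFunc.Basic
import Mathlib.RingTheory.TensorProduct.MvPolynomial

/-!
Finite flat group schemes acting on affine schemes: invariants commute with flat base change and
geometric points with the same invariants are conjugate.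
-/

set_option autoImplicit false

universe u

open TensorProduct HopfRep

namespace Groth.Agent.H20Inertia

noncomputable section

/-- The point `x` moved by the point `g`. -/
def move {R A B L : Type u} [CommRing R] [CommRing A] [Bialgebra R A] [CommRing B] [Algebra R B]
    [Comod R A B] [GLin.IsCoactAlg R A B] [CommRing L] [Algebra R L] (x : B →ₐ[R] L) (g : A →ₐ[R] L) :
    B →ₐ[R] L :=
  (Algebra.TensorProduct.lift x g fun _ _ => .all _ _).comp (GLin.coactAlgHom R A B)

theorem lift_lmul_map {R A B L : Type u} [CommRing R] [CommRing A] [CommRing B] [Algebra R A] [Algebra R B]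
    [CommRing L] [Algebra R L] (x : B →ₐ[R] L) (g : A →ₐ[R] L) (z : B ⊗[R] A) :
    Algebra.TensorProduct.lift x g (fun _ _ => .all _ _) z =
      Algebra.TensorProduct.lmul' R (Algebra.TensorProduct.map x g z) := by
  induction z using TensorProduct.induction_on with
  | zero => simp
  | tmul b a => simp
  | add u v hu hv => simp only [map_add, hu, hv]

section Single

variable {R A B : Type u} [CommRing R] [CommRing A] [HopfAlgebra R A] [Module.Free R A] [Module.Finite R A]
  [CommRing B] [Algebra R B] [Comod R A B] [GLin.IsCoactAlg R A B]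
  {L : Type u} [Field L] [IsAlgClosed L] [Algebra R L]

theorem exists_move_eq_at (x x' : B →ₐ[R] L)
    (hag : ∀ f : B, Comod.coact (k := R) (A := A) f = f ⊗ₜ[R] (1 : A) → x f = x' f) (z : B) : ∃ g : A →ₐ[R] L, x' z = move x g z := by
  have hcoef : ∀ i, x ((H20Comod.FreeCharpoly.coactCharpoly R A B z).coeff i) =
      x' ((H20Comod.FreeCharpoly.coactCharpoly R A B z).coeff i) := fun i => by
    refine hag _ ?_
    have := congrArg (Polynomial.coeff · i) (H20Comod.FreeCharpoly.coactCharpoly_map_coact (k := R) (A := A) z)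
    simp only [Polynomial.coeff_map] at this
    exact this
  have hmap : (H20Comod.FreeCharpoly.coactCharpoly R A B z).map x'.toRingHom =
      (H20Comod.FreeCharpoly.coactCharpoly R A B z).map x.toRingHom := by
    refine Polynomial.ext fun i => ?_
    rw [Polynomial.coeff_map, Polynomial.coeff_map]
    exact (hcoef i).symm
  have hroot : ((H20Comod.FreeCharpoly.coactCharpoly R A B z).map x.toRingHom).eval (x' z) = 0 := by
    rw [← hmap]
    show Polynomial.eval (x'.toRingHom z) _ = 0
    rw [Polynomial.eval_map_apply, H20Comod.FreeCharpoly.eval_coactCharpoly, map_zero]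
  unfold H20Comod.FreeCharpoly.coactCharpoly at hroot
  rw [H20Comod.FreeCharpoly.charpoly_map_eq x] at hroot
  set w := H20Comod.FreeCharpoly.extendA R A x (GLin.coactAlgHom R A B z)
  have hnu : ¬ IsUnit (algebraMap L (L ⊗[R] A) (x' z) - w) := by
    intro hu
    have h1 := LinearMap.isUnit_det _ (hu.map (Algebra.lmul L (L ⊗[R] A)))
    rw [map_sub, AlgHom.commutes] at h1
    have h2 := LinearMap.eval_charpoly (Algebra.lmul L (L ⊗[R] A) w) (x' z)
    rw [hroot] at h2
    exact h1.ne_zero h2.symm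
  obtain ⟨P, hP⟩ := H20Comod.exists_point_le_ker (k := L) (J := Ideal.span {algebraMap L (L ⊗[R] A) (x' z) - w})
    (fun h => hnu (Ideal.span_singleton_eq_top.1 h))
  refine ⟨(P.restrictScalars R).comp Algebra.TensorProduct.includeRight, ?_⟩
  have h0 := hP (Ideal.mem_span_singleton_self _)
  rw [RingHom.mem_ker, map_sub, AlgHom.commutes, sub_eq_zero] at h0
  refine h0.trans ?_
  show P (Algebra.TensorProduct.map x (AlgHom.id R A) (GLin.coactAlgHom R A B z)) =
    Algebra.TensorProduct.lift x ((P.restrictScalars R).comp Algebra.TensorProduct.includeRight) (fun _ _ => .all _ _) (GLin.coactAlgHom R A B z)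
  generalize GLin.coactAlgHom R A B z = t
  induction t using TensorProduct.induction_on with
  | zero => simp
  | tmul b a =>
    rw [Algebra.TensorProduct.map_tmul, Algebra.TensorProduct.lift_tmul]
    have : (x b : L) ⊗ₜ[R] a = (x b) • ((1 : L) ⊗ₜ[R] a) := by rw [smul_tmul', smul_eq_mul, mul_one]
    rw [AlgHom.coe_id, id_eq, this, map_smul, smul_eq_mul]
    rfl
  | add u v hu hv => simp only [map_add, hu, hv]

end Single

section BaseChange

variable (R S A B : Type u) [CommRing R] [CommRing S] [Algebra R S] [CommRing A] [Bialgebra R A]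
  [CommRing B] [Algebra R B] [Comod R A B] [GLin.IsCoactAlg R A B]

theorem fixed_baseChange [Module.Flat R S]
    (z : S ⊗[R] B) (hz : (CoactBr.Comod.baseChange R S A B).coact z = z ⊗ₜ[S] (1 : S ⊗[R] A)) :
    z ∈ LinearMap.range ((GLin.invariants R A B).val.toLinearMap.lTensor S) := by
  let δ : B →ₗ[R] B ⊗[R] A := Comod.coact (k := R) (A := A) - (TensorProduct.mk R B A).flip 1
  let Ψ := (TensorProduct.AlgebraTensorModule.distribBaseChange R S B A).symm
  have key : ∀ y : S ⊗[R] B,
      Ψ ((CoactBr.Comod.baseChange R S A B).coact y - y ⊗ₜ[S] (1 : S ⊗[R] A)) = δ.lTensor S y := by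
    intro y
    induction y using TensorProduct.induction_on with
    | zero => simp
    | add u v hu hv =>
      rw [map_add (δ.lTensor S), ← hu, ← hv, ← map_add]
      congr 1
      rw [map_add, TensorProduct.add_tmul]
      abel
    | tmul s b =>
      obtain ⟨t, ht⟩ := TensorProduct.exists_finset (Comod.coact (k := R) (A := A) b)
      rw [CoactBr.baseChange_coact_tmul_of_sum R S A B t s b _ _ ht, map_sub, map_sum, LinearMap.lTensor_tmul,
        LinearMap.sub_apply, ht, LinearMap.flip_apply, TensorProduct.mk_apply, tmul_sub, tmul_sum,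
        Algebra.TensorProduct.one_def]
      simp only [Ψ, TensorProduct.AlgebraTensorModule.distribBaseChange_symm_tmul, one_mul, mul_one]
  have h0 : δ.lTensor S z = 0 := by rw [← key, hz, sub_self, map_zero]
  have hex : Function.Exact (GLin.invariants R A B).val.toLinearMap δ := fun f => by
    constructor
    · intro hf
      exact ⟨⟨f, sub_eq_zero.1 hf⟩, rfl⟩
    · rintro ⟨⟨f, hf⟩, rfl⟩
      exact sub_eq_zero.2 hf
  exact (Module.Flat.lTensor_exact S hex z).1 h0

theorem invariants_baseChange [Module.Flat R S]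
    (hC : ∀ f : B, Comod.coact (k := R) (A := A) f = f ⊗ₜ[R] (1 : A) → f ∈ Set.range (algebraMap R B))
    (z : S ⊗[R] B) (hz : (CoactBr.Comod.baseChange R S A B).coact z = z ⊗ₜ[S] (1 : S ⊗[R] A)) :
    z ∈ Set.range (algebraMap S (S ⊗[R] B)) := by
  obtain ⟨y, rfl⟩ := fixed_baseChange R S A B z hz
  clear hz
  induction y using TensorProduct.induction_on with
  | zero => exact ⟨0, by simp⟩
  | tmul s c =>
    obtain ⟨r, hr⟩ := hC c.1 c.2
    refine ⟨s * algebraMap R S r, ?_⟩
    show (s * algebraMap R S r) ⊗ₜ[R] (1 : B) = s ⊗ₜ[R] (c : B)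
    rw [← hr, Algebra.algebraMap_eq_smul_one r, Algebra.algebraMap_eq_smul_one r, mul_smul_comm, mul_one, smul_tmul]
  | add u v hu hv =>
    obtain ⟨p, hp⟩ := hu
    obtain ⟨q, hq⟩ := hv
    exact ⟨p + q, by rw [map_add, map_add, hp, hq]⟩

theorem agree_baseChange [Module.Flat R S] {L : Type u} [CommRing L] [Algebra R L] [Algebra S L]
    (x x' : B →ₐ[R] L) (hag : ∀ f : B, Comod.coact (k := R) (A := A) f = f ⊗ₜ[R] (1 : A) → x f = x' f)
    (x₁ x₁' : S ⊗[R] B →ₐ[S] L) (hx : ∀ s b, x₁ (s ⊗ₜ[R] b) = algebraMap S L s * x b)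
    (hx' : ∀ s b, x₁' (s ⊗ₜ[R] b) = algebraMap S L s * x' b)
    (z : S ⊗[R] B) (hz : (CoactBr.Comod.baseChange R S A B).coact z = z ⊗ₜ[S] (1 : S ⊗[R] A)) :
    x₁ z = x₁' z := by
  obtain ⟨y, rfl⟩ := fixed_baseChange R S A B z hz
  clear hz
  induction y using TensorProduct.induction_on with
  | zero => simp
  | tmul s c =>
    show x₁ (s ⊗ₜ[R] (c : B)) = x₁' (s ⊗ₜ[R] (c : B))
    rw [hx, hx', hag _ c.2]
  | add u v hu hv => simp only [map_add, hu, hv]

theorem move_baseChange {L : Type u} [CommRing L] [Algebra R L] [Algebra S L] [IsScalarTower R S L]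
    (x : B →ₐ[R] L) (x₁ : S ⊗[R] B →ₐ[S] L) (hx : ∀ b, x₁ ((1 : S) ⊗ₜ[R] b) = x b)
    (g₁ : S ⊗[R] A →ₐ[S] L) (s : S) (b : B) :
    @move S (S ⊗[R] A) (S ⊗[R] B) L _ _ _ _ _ (CoactBr.Comod.baseChange R S A B)
        (CoactBr.isCoactAlg_baseChange R S A B) _ _ x₁ g₁ (s ⊗ₜ[R] b) =
      algebraMap S L s * move x ((g₁.restrictScalars R).comp Algebra.TensorProduct.includeRight) b := by
  obtain ⟨t, ht⟩ := TensorProduct.exists_finset (Comod.coact (k := R) (A := A) b)
  show Algebra.TensorProduct.lift x₁ g₁ (fun _ _ => .all _ _) ((CoactBr.Comod.baseChange R S A B).coact (s ⊗ₜ[R] b)) =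
    algebraMap S L s * Algebra.TensorProduct.lift x ((g₁.restrictScalars R).comp Algebra.TensorProduct.includeRight) (fun _ _ => .all _ _) (Comod.coact (k := R) (A := A) b)
  rw [CoactBr.baseChange_coact_tmul_of_sum R S A B t s b _ _ ht, ht, map_sum, map_sum, Finset.mul_sum]
  refine Finset.sum_congr rfl fun i _ => ?_
  rw [Algebra.TensorProduct.lift_tmul, Algebra.TensorProduct.lift_tmul, hx]
  have : s ⊗ₜ[R] i.2 = s • ((1 : S) ⊗ₜ[R] i.2) := by rw [smul_tmul', smul_eq_mul, mul_one]
  rw [this, map_smul, Algebra.smul_def]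
  show x i.1 * (algebraMap S L s * g₁ ((1 : S) ⊗ₜ[R] i.2)) = algebraMap S L s * (x i.1 * g₁ ((1 : S) ⊗ₜ[R] i.2))
  ring

end BaseChange

section Transitive

variable {R A B : Type u} [CommRing R] [CommRing A] [HopfAlgebra R A] [Module.Finite R A]
  [CommRing B] [Algebra R B] [Comod R A B] [GLin.IsCoactAlg R A B]
  {Ω : Type u} [Field Ω] [IsAlgClosed Ω] [Algebra R Ω]

omit [IsAlgClosed Ω] in
theorem finite_points : Finite (A →ₐ[R] Ω) := by
  haveI : IsArtinianRing (Ω ⊗[R] A) := .of_finite Ω _
  let e : (A →ₐ[R] Ω) → (Ω ⊗[R] A →ₐ[Ω] Ω) := fun g =>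
    Algebra.TensorProduct.lift (AlgHom.id Ω Ω) g fun _ _ => .all _ _
  have he : Function.Injective e := fun g g' h => AlgHom.ext fun a => by
    simpa [e] using AlgHom.congr_fun h ((1 : Ω) ⊗ₜ[R] a)
  haveI : Finite (Ω ⊗[R] A →ₐ[Ω] Ω) := Finite.of_injective
    (fun φ => (⟨RingHom.ker φ, RingHom.ker_isPrime φ⟩ : PrimeSpectrum (Ω ⊗[R] A))) fun φ φ' h => AlgHom.ext fun t => by
      have h1 : t - algebraMap Ω _ (φ t) ∈ RingHom.ker φ := by
        rw [RingHom.mem_ker, map_sub, AlgHom.commutes, Algebra.algebraMap_self, RingHom.id_apply, sub_self]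
      rw [show RingHom.ker φ = RingHom.ker φ' from congrArg PrimeSpectrum.asIdeal h, RingHom.mem_ker, map_sub,
        AlgHom.commutes, sub_eq_zero] at h1
      exact h1.symm
  exact Finite.of_injective e he

theorem exists_move_eq [Module.Free R A]
    (x x' : B →ₐ[R] Ω) (hag : ∀ f : B, Comod.coact (k := R) (A := A) f = f ⊗ₜ[R] (1 : A) → x f = x' f) : ∃ g : A →ₐ[R] Ω, x' = move x g := by
  classical
  by_contra hne
  push Not at hne
  haveI := finite_points (R := R) (A := A) (Ω := Ω)
  letI := Fintype.ofFinite (A →ₐ[R] Ω)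
  choose b hb using fun g => DFunLike.ne_iff.1 (hne g)
  let e := Fintype.equivFin (A →ₐ[R] Ω)
  obtain ⟨L, hL, hL', j, hj⟩ : ∃ (L : Type u) (_ : Field L) (_ : IsAlgClosed L) (j : Polynomial Ω →+* L),
      Function.Injective j :=
    ⟨AlgebraicClosure (RatFunc Ω), inferInstance, inferInstance,
      (algebraMap (RatFunc Ω) _).comp (algebraMap (Polynomial Ω) (RatFunc Ω)),
      (algebraMap (RatFunc Ω) _).injective.comp (IsFractionRing.injective _ _)⟩
  let ι : Ω →+* L := j.comp Polynomial.C
  letI : Algebra R L := (ι.comp (algebraMap R Ω)).toAlgebra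
  let ιR : Ω →ₐ[R] L := { ι with commutes' := fun r => rfl }
  letI : Algebra (Polynomial R) L := (j.comp (Polynomial.mapRingHom (algebraMap R Ω))).toAlgebra
  haveI : IsScalarTower R (Polynomial R) L := IsScalarTower.of_algebraMap_eq fun r => by
    show j (Polynomial.C (algebraMap R Ω r)) = j ((Polynomial.C r).map (algebraMap R Ω))
    rw [Polynomial.map_C]
  let S := Polynomial R
  letI := CoactBr.Comod.baseChange R S A B
  haveI := CoactBr.isCoactAlg_baseChange R S A B
  let x₁ : S ⊗[R] B →ₐ[S] L := Algebra.TensorProduct.lift (Algebra.ofId S L) (ιR.comp x) fun _ _ => .all _ _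
  let x₁' : S ⊗[R] B →ₐ[S] L := Algebra.TensorProduct.lift (Algebra.ofId S L) (ιR.comp x') fun _ _ => .all _ _
  obtain ⟨γ, hγ⟩ := exists_move_eq_at (R := S) (A := S ⊗[R] A) (B := S ⊗[R] B) (L := L)
    x₁ x₁' (agree_baseChange R S A B (ιR.comp x) (ιR.comp x') (fun f hf => congrArg ιR (hag f hf)) x₁ x₁'
      (fun _ _ => Algebra.TensorProduct.lift_tmul _ _ _ _ _) (fun _ _ => Algebra.TensorProduct.lift_tmul _ _ _ _ _)) (∑ g, ((Polynomial.X : S) ^ (e g : ℕ)) ⊗ₜ[R] b g)
  set γ₀ := (γ.restrictScalars R).comp Algebra.TensorProduct.includeRight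
  have hint : ∀ a : A, ∃ c : Ω, ι c = γ₀ a := fun a => by
    obtain ⟨p, hp, hpa⟩ := Algebra.IsIntegral.isIntegral (R := R) a
    have hsplit : (p.map (algebraMap R Ω)).Splits := IsAlgClosed.splits _
    have h0 : ((p.map (algebraMap R Ω)).map ι).eval (γ₀ a) = 0 := by
      rw [Polynomial.map_map, Polynomial.eval_map]
      have := congrArg γ₀.toRingHom hpa
      rw [map_zero, Polynomial.hom_eval₂] at this
      rw [← this]
      congr 1
      exact RingHom.ext fun r => (γ₀.commutes r).symm
    have hne0 : (p.map (algebraMap R Ω)).map ι ≠ 0 := ((hp.map _).map _).ne_zero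
    have hmem : γ₀ a ∈ ((p.map (algebraMap R Ω)).map ι).roots := (Polynomial.mem_roots hne0).2 h0
    rw [hsplit.roots_map] at hmem
    obtain ⟨c, -, hc⟩ := Multiset.mem_map.1 hmem
    exact ⟨c, hc⟩
  choose g₀ hg₀ using hint
  let g : A →ₐ[R] Ω :=
    { toFun := g₀
      map_one' := ι.injective (by rw [hg₀, map_one, map_one])
      map_mul' := fun p q => ι.injective (by rw [map_mul, hg₀, hg₀, hg₀, map_mul])
      map_zero' := ι.injective (by rw [hg₀, map_zero, map_zero])
      map_add' := fun p q => ι.injective (by rw [map_add, hg₀, hg₀, hg₀, map_add])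
      commutes' := fun r => ι.injective (by rw [hg₀, γ₀.commutes]; rfl) }
  have hmove : ∀ f : B, move (ιR.comp x) γ₀ f = ι (move x g f) := fun f => by
    show Algebra.TensorProduct.lift (ιR.comp x) γ₀ (fun _ _ => .all _ _) (GLin.coactAlgHom R A B f) = ι (Algebra.TensorProduct.lift x g (fun _ _ => .all _ _) (GLin.coactAlgHom R A B f))
    generalize GLin.coactAlgHom R A B f = t
    induction t using TensorProduct.induction_on with
    | zero => simp
    | tmul p q =>
      rw [Algebra.TensorProduct.lift_tmul, Algebra.TensorProduct.lift_tmul, map_mul]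
      exact congrArg (fun c => ι (x p) * c) (hg₀ q).symm
    | add p q hp hq => simp only [map_add, hp, hq]
  have hpoly : (∑ h, Polynomial.X ^ (e h : ℕ) * Polynomial.C (x' (b h)) : Polynomial Ω) =
      ∑ h, Polynomial.X ^ (e h : ℕ) * Polynomial.C (move x g (b h)) := by
    refine hj ?_
    rw [map_sum, map_sum]
    rw [map_sum, map_sum] at hγ
    have hS : ∀ n : ℕ, algebraMap S L ((Polynomial.X : S) ^ n) = j (Polynomial.X ^ n) := fun n => by
      show j (((Polynomial.X : Polynomial R) ^ n).map (algebraMap R Ω)) = _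
      rw [Polynomial.map_pow, Polynomial.map_X]
    refine Eq.trans ?_ (hγ.trans (Finset.sum_congr rfl fun h _ => ?_))
    · refine Finset.sum_congr rfl fun h _ => ?_
      rw [map_mul, ← hS, Algebra.TensorProduct.lift_tmul]
      rfl
    · rw [move_baseChange R S A B (ιR.comp x) x₁ (fun f => by
        rw [Algebra.TensorProduct.lift_tmul, map_one, one_mul]) γ, hmove, map_mul, ← hS]
      rfl
  refine hb g ?_
  have := congrArg (fun P : Polynomial Ω => P.coeff (e g : ℕ)) hpoly
  simp only [Polynomial.finset_sum_coeff, Polynomial.coeff_X_pow_mul', Polynomial.coeff_C] at this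
  rw [Finset.sum_eq_single g, Finset.sum_eq_single g] at this
  · simpa using this
  all_goals first
    | (intro h; exact absurd (Finset.mem_univ _) h)
    | (intro h _ hh
       have : (e h : ℕ) ≠ (e g : ℕ) := fun he => hh (e.injective (Fin.ext he))
       split_ifs <;> first | rfl | omega)

theorem exists_move_eq_of_agree [Module.Flat R A] (x x' : B →ₐ[R] Ω)
    (hag : ∀ f : B, Comod.coact (k := R) (A := A) f = f ⊗ₜ[R] (1 : A) → x f = x' f) :
    ∃ g : A →ₐ[R] Ω, x' = move x g := by
  let q := RingHom.ker (algebraMap R Ω)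
  haveI : q.IsPrime := RingHom.ker_isPrime _
  let S := Localization.AtPrime q
  let f : S →ₐ[R] Ω := IsLocalization.liftAlgHom (M := q.primeCompl) (f := Algebra.ofId R Ω) fun y =>
    isUnit_iff_ne_zero.2 fun h => y.2 h
  letI : Algebra S Ω := f.toRingHom.toAlgebra
  haveI : IsScalarTower R S Ω := IsScalarTower.of_algebraMap_eq fun r => (f.commutes r).symm
  haveI : Module.Flat R S := IsLocalization.flat S q.primeCompl
  haveI : Module.Free S (S ⊗[R] A) := Module.free_of_flat_of_isLocalRing
  letI := CoactBr.Comod.baseChange R S A B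
  haveI := CoactBr.isCoactAlg_baseChange R S A B
  let x₁ : S ⊗[R] B →ₐ[S] Ω := Algebra.TensorProduct.lift (Algebra.ofId S Ω) x fun _ _ => .all _ _
  let x₁' : S ⊗[R] B →ₐ[S] Ω := Algebra.TensorProduct.lift (Algebra.ofId S Ω) x' fun _ _ => .all _ _
  obtain ⟨γ, hγ⟩ := exists_move_eq (R := S) (A := S ⊗[R] A) (B := S ⊗[R] B) (Ω := Ω)
    x₁ x₁' (agree_baseChange R S A B x x' hag x₁ x₁'
      (fun _ _ => Algebra.TensorProduct.lift_tmul _ _ _ _ _) (fun _ _ => Algebra.TensorProduct.lift_tmul _ _ _ _ _))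
  refine ⟨(γ.restrictScalars R).comp Algebra.TensorProduct.includeRight, AlgHom.ext fun b => ?_⟩
  have := AlgHom.congr_fun hγ ((1 : S) ⊗ₜ[R] b)
  rw [move_baseChange R S A B x x₁ (fun f => by rw [Algebra.TensorProduct.lift_tmul, map_one, one_mul]) γ,
    map_one, one_mul, Algebra.TensorProduct.lift_tmul, map_one, one_mul] at this
  exact this

theorem exists_move_eq_of_flat [Module.Flat R A]
    (hC : ∀ f : B, Comod.coact (k := R) (A := A) f = f ⊗ₜ[R] (1 : A) → f ∈ Set.range (algebraMap R B))
    (x x' : B →ₐ[R] Ω) : ∃ g : A →ₐ[R] Ω, x' = move x g :=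
  exists_move_eq_of_agree x x' fun f hf => by
    obtain ⟨r, rfl⟩ := hC f hf
    rw [x.commutes, x'.commutes]

end Transitive

end

end Groth.Agent.H20Inertia
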